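import Cfsg.Agent.BabyU.ClosFacts
import Cfsg.Agent.BabyComp.BaseB

-- merged: Cfsg.Agent.BabyComp.Uniq
section

/-!
# A product of two commuting transpositions of class 2C determines them (helper30)

`H = ⊤`, `Inner ⊤ P M z t t₁` : the facts on the Baby Monster. `uniq` : if `d` is a transposition commuting with `t` and
`d ∉ M`, then `t` and `d` are the only transpositions `e` commuting with `u = t d` such that `e u` is a transposition.
`prod_ne` : the product of `t` and a transposition `e ∈ M`, `e ≠ t`, is not a transposition.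
-/

set_option autoImplicit false

namespace Cfsg.Agent.BabyComp.Uniq

open Cfsg.Agent.BabyU.Clos

variable {G : Type*} [Group G] {P M : Subgroup G} {z t t₁ : G}

theorem sq_of_cls (I : Inner ⊤ P M z t t₁) {e : G} (he : e ∈ cls ⊤ t) : e * e = 1 := by
  obtain ⟨h, -, rfl⟩ := he
  calc h * t * h⁻¹ * (h * t * h⁻¹) = h * (t * t) * h⁻¹ := by group
    _ = 1 := by rw [I.t_sq]; group

theorem cls_conj {e : G} (he : e ∈ cls ⊤ t) (g : G) : g * e * g⁻¹ ∈ cls ⊤ t := by
  obtain ⟨h, -, rfl⟩ := he
  exact ⟨g * h, Subgroup.mem_top _, by group⟩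

theorem cls_conj' {e : G} (he : e ∈ cls ⊤ t) (g : G) : g⁻¹ * e * g ∈ cls ⊤ t := by
  have := cls_conj he g⁻¹
  rwa [inv_inv] at this

/-- the product of `t` and a transposition `e ∈ M`, `e ≠ t`, is conjugate to `z` -/
theorem prod_conj (I : Inner ⊤ P M z t t₁) {e : G} (he : e ∈ cls ⊤ t) (heM : e ∈ M) (hne : e ≠ t) :
    ∃ h : G, t * e = h * z * h⁻¹ := by
  obtain ⟨h, -, hc, e1⟩ := I.adj e he heM hne
  refine ⟨h, ?_⟩
  rw [← e1]
  have h1 : h⁻¹ * t * h = t := by rw [mul_assoc, ← hc]; group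
  calc t * (h * (t * z) * h⁻¹) = h * (h⁻¹ * t * h * (t * z)) * h⁻¹ := by group
    _ = h * (t * t * z) * h⁻¹ := by rw [h1, ← mul_assoc t t z]
    _ = h * z * h⁻¹ := by rw [I.t_sq, one_mul]

/-- the product of `t` and a transposition `e ∈ M`, `e ≠ t`, is not a transposition -/
theorem prod_ne (I : Inner ⊤ P M z t t₁) {e : G} (he : e ∈ cls ⊤ t) (heM : e ∈ M) (hne : e ≠ t) : t * e ∉ cls ⊤ t := by
  obtain ⟨h, h1⟩ := prod_conj I he heM hne
  intro h2
  apply I.z_notin
  have h3 := cls_conj' h2 h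
  rwa [h1, show h⁻¹ * (h * z * h⁻¹) * h = z by group] at h3

/-- If `d` and `z d` are transpositions and `d` commutes with `z`, then `d ∈ P`. -/
theorem mem_P (I : Inner ⊤ P M z t t₁) {d : G} (hd : d ∈ cls ⊤ t) (hc : d * z = z * d) (hzd : z * d ∈ cls ⊤ t) :
    d ∈ P := by
  obtain ⟨k, -, rfl⟩ := hd
  have hzM := I.zM k (Subgroup.mem_top _) hc
  -- `s = k⁻¹ (z d) k = z' t`
  have hs : k⁻¹ * z * k * t ∈ cls ⊤ t := by
    have h1 := cls_conj' hzd k
    rwa [show k⁻¹ * (z * (k * t * k⁻¹)) * k = k⁻¹ * z * k * t by group] at h1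
  have hsM : k⁻¹ * z * k * t ∈ M := M.mul_mem hzM I.tM
  have hne : k⁻¹ * z * k * t ≠ t := by
    intro h1
    have h2 : k⁻¹ * z * k = 1 := by
      calc k⁻¹ * z * k = k⁻¹ * z * k * t * t⁻¹ := by group
        _ = 1 := by rw [h1, mul_inv_cancel]
    apply I.z_ne
    calc z = k * (k⁻¹ * z * k) * k⁻¹ := by group
      _ = 1 := by rw [h2]; group
  obtain ⟨h, -, hht, h1⟩ := I.adj _ hs hsM hne
  have hz't : k⁻¹ * z * k * t = t * (k⁻¹ * z * k) := I.M_comm _ hzM
  have hth : h * t * h⁻¹ = t := by rw [hht]; group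
  have h2 : h * z * h⁻¹ = k⁻¹ * z * k := by
    have h3 : t * (h * z * h⁻¹) = t * (k⁻¹ * z * k) := by
      rw [← hz't, ← h1]
      calc t * (h * z * h⁻¹) = h * t * h⁻¹ * (h * z * h⁻¹) := by rw [hth]
        _ = h * (t * z) * h⁻¹ := by group
    exact mul_left_cancel h3
  have h3 : (k * h) * z = z * (k * h) := by
    have h4 : (k * h) * z * (k * h)⁻¹ = z := by
      calc (k * h) * z * (k * h)⁻¹ = k * (h * z * h⁻¹) * k⁻¹ := by group
        _ = z := by rw [h2]; group
    rw [mul_inv_eq_iff_eq_mul] at h4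
    exact h4
  have h5 := I.P_norm (k * h) (Subgroup.mem_top _) h3 t I.tP
  have h6 : k * h * t * (k * h)⁻¹ = k * t * k⁻¹ := by
    calc k * h * t * (k * h)⁻¹ = k * (h * t * h⁻¹) * k⁻¹ := by group
      _ = _ := by rw [hth]
  rwa [h6] at h5

/-- The case of an inner transposition. -/
theorem no_inner (I : Inner ⊤ P M z t t₁) {d e : G} (hd : d ∈ cls ⊤ t) (hdt : d * t = t * d) (hdM : d ∉ M)
    (he : e ∈ cls ⊤ t) (heM : e ∈ M) (hne : e ≠ t) (heu : e * (t * d) = t * d * e) (heu' : e * (t * d) ∈ cls ⊤ t) :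
    False := by
  obtain ⟨h, -, hht, h1⟩ := I.adj e he heM hne
  have hth : h⁻¹ * t * h = t := by rw [mul_assoc, ← hht]; group
  set d₁ := h⁻¹ * d * h with hd₁
  have hd1 : d₁ ∈ cls ⊤ t := cls_conj' hd h
  have hzt : t * z = z * t := I.zc t I.tP
  -- conjugate everything by `h⁻¹`
  have e1 : h⁻¹ * e * h = t * z := by rw [← h1]; group
  have e2 : h⁻¹ * (t * d) * h = t * d₁ := by
    calc h⁻¹ * (t * d) * h = h⁻¹ * t * h * (h⁻¹ * d * h) := by group
      _ = t * d₁ := by rw [hth]
  have hd1t : d₁ * t = t * d₁ := by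
    calc d₁ * t = d₁ * (h⁻¹ * t * h) := by rw [hth]
      _ = h⁻¹ * (d * t) * h := by rw [hd₁]; group
      _ = h⁻¹ * (t * d) * h := by rw [hdt]
      _ = t * d₁ := e2
  have h2 : z * d₁ ∈ cls ⊤ t := by
    have h3 := cls_conj' heu' h
    have h4 : h⁻¹ * (e * (t * d)) * h = z * d₁ := by
      calc h⁻¹ * (e * (t * d)) * h = h⁻¹ * e * h * (h⁻¹ * (t * d) * h) := by group
        _ = t * z * (t * d₁) := by rw [e1, e2]
        _ = z * (t * t) * d₁ := by rw [hzt]; group
        _ = z * d₁ := by rw [I.t_sq, mul_one]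
    rwa [h4] at h3
  have h3 : d₁ * z = z * d₁ := by
    have h4 : t * z * (t * d₁) = t * d₁ * (t * z) := by
      rw [← e1, ← e2]
      calc h⁻¹ * e * h * (h⁻¹ * (t * d) * h) = h⁻¹ * (e * (t * d)) * h := by group
        _ = h⁻¹ * (t * d * e) * h := by rw [heu]
        _ = _ := by group
    have h5 : t * z * (t * d₁) = z * d₁ := by
      rw [hzt]
      calc z * t * (t * d₁) = z * (t * t) * d₁ := by group
        _ = z * d₁ := by rw [I.t_sq, mul_one]
    have h6 : t * d₁ * (t * z) = d₁ * z := by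
      calc t * d₁ * (t * z) = t * (d₁ * t) * z := by group
        _ = t * t * (d₁ * z) := by rw [hd1t]; group
        _ = d₁ * z := by rw [I.t_sq, one_mul]
    rw [← h5, h4, h6]
  have h4 := mem_P I hd1 h3 h2
  have h5 := I.PM _ h4 hd1t
  apply hdM
  have h6 := I.M_norm h (Subgroup.mem_top _) hht _ h5
  rwa [hd₁, show h * (h⁻¹ * d * h) * h⁻¹ = d by group] at h6

/-- The case of a transposition commuting with `t`. -/
theorem of_comm (I : Inner ⊤ P M z t t₁) {d e : G} (hd : d ∈ cls ⊤ t) (hdt : d * t = t * d) (hdM : d ∉ M)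
    (he : e ∈ cls ⊤ t) (het : e * t = t * e) (heu : e * (t * d) = t * d * e) (heu' : e * (t * d) ∈ cls ⊤ t) :
    e = t ∨ e = d := by
  by_contra hcon
  push Not at hcon
  have hdd := sq_of_cls I hd
  have huu : t * d * (t * d) = 1 := by
    calc t * d * (t * d) = t * (d * t) * d := by group
      _ = t * (t * d) * d := by rw [hdt]
      _ = (t * t) * (d * d) := by group
      _ = 1 := by rw [I.t_sq, hdd, one_mul]
  by_cases heM : e ∈ M
  · exact no_inner I hd hdt hdM he heM hcon.1 heu heu'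
  · have huM : t * d ∉ M := by
      intro h1
      apply hdM
      have h2 := M.mul_mem I.tM h1
      rwa [← mul_assoc, I.t_sq, one_mul] at h2
    have hut : t * d * t = t * (t * d) := by rw [mul_assoc, hdt]
    have h1 : e * (t * d) ∈ M := I.M_index _ (Subgroup.mem_top _) _ (Subgroup.mem_top _) het hut heM huM
    have h2 : e * (t * d) ≠ t := by
      intro h3
      apply hcon.2
      calc e = e * (t * d) * (t * d) := by rw [mul_assoc, huu, mul_one]
        _ = t * (t * d) := by rw [h3]
        _ = d := by rw [← mul_assoc, I.t_sq, one_mul]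
    refine no_inner I hd hdt hdM heu' h1 h2 ?_ ?_
    · rw [mul_assoc, huu, ← mul_assoc, ← heu, mul_assoc, huu]
    · rw [mul_assoc, huu, mul_one]
      exact he

/-- **Uniqueness of the pair.** -/
theorem uniq (I : Inner ⊤ P M z t t₁) {d e : G} (hd : d ∈ cls ⊤ t) (hdt : d * t = t * d) (hdM : d ∉ M)
    (he : e ∈ cls ⊤ t) (heu : e * (t * d) = t * d * e) (heu' : e * (t * d) ∈ cls ⊤ t) : e = t ∨ e = d := by
  have hdd := sq_of_cls I hd
  have hee := sq_of_cls I he
  have huu : t * d * (t * d) = 1 := by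
    calc t * d * (t * d) = t * (d * t) * d := by group
      _ = t * (t * d) * d := by rw [hdt]
      _ = (t * t) * (d * d) := by group
      _ = 1 := by rw [I.t_sq, hdd, one_mul]
  have hu1 : t * d ≠ 1 := by
    intro h
    apply hdM
    have : d = t := by
      calc d = t * (t * d) := by rw [← mul_assoc, I.t_sq, one_mul]
        _ = t := by rw [h, mul_one]
    rw [this]
    exact I.tM
  set u := t * d with hu
  have hut : u * t = t * u := by rw [hu, mul_assoc, hdt]
  -- `p = e t`
  have hpu : Commute (e * t) u := by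
    show e * t * u = u * (e * t)
    rw [mul_assoc, ← hut, ← mul_assoc, heu, mul_assoc]
  have h4 : (e * t) ^ 4 = 1 := by
    obtain ⟨n, n0, n4, hn⟩ := I.ord e he
    obtain ⟨m, m0, m4, hm⟩ := I.ord (e * u) heu'
    have hm' : (e * t) ^ m * u ^ m = 1 := by
      rw [← hpu.mul_pow, ← hm, mul_assoc, mul_assoc, hut]
    have hu2 : u ^ 2 = 1 := by rw [pow_two, huu]
    interval_cases n
    · rw [pow_one] at hn
      rw [hn, one_pow]
    · calc (e * t) ^ 4 = ((e * t) ^ 2) ^ 2 := by rw [← pow_mul]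
        _ = 1 := by rw [hn, one_pow]
    · interval_cases m
      · exfalso
        rw [pow_one, pow_one] at hm'
        have h1 : e * t = u := by
          rw [mul_eq_one_iff_eq_inv] at hm'
          rw [hm']
          exact inv_eq_of_mul_eq_one_left huu
        rw [h1] at hn
        apply hu1
        calc u = u ^ 3 := by rw [pow_succ, hu2, one_mul]
          _ = 1 := hn
      · rw [hu2, mul_one] at hm'
        calc (e * t) ^ 4 = ((e * t) ^ 2) ^ 2 := by rw [← pow_mul]
          _ = 1 := by rw [hm', one_pow]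
      · exfalso
        rw [hn, one_mul] at hm'
        apply hu1
        calc u = u ^ 3 := by rw [pow_succ, hu2, one_mul]
          _ = 1 := hm'
      · calc (e * t) ^ 4 = (e * t) ^ 4 * (u ^ 2) ^ 2 := by rw [hu2, one_pow, mul_one]
          _ = (e * t) ^ 4 * u ^ 4 := by rw [← pow_mul]
          _ = 1 := hm'
    · exact hn
  by_cases h2 : (e * t) ^ 2 = 1
  · refine of_comm I hd hdt hdM he ?_ heu heu'
    have h5 : e * t * (e * t) = 1 := by rw [← pow_two, h2]
    calc e * t = (e * t)⁻¹ := eq_inv_of_mul_eq_one_left h5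
      _ = t⁻¹ * e⁻¹ := by group
      _ = t * e := by
        rw [inv_eq_of_mul_eq_one_left I.t_sq, inv_eq_of_mul_eq_one_left hee]
  · exfalso
    have hti : t⁻¹ = t := inv_eq_of_mul_eq_one_left I.t_sq
    have hei : e⁻¹ = e := inv_eq_of_mul_eq_one_left hee
    -- `s = e t e`
    have h5 : (e * t * e) * t * ((e * t * e) * t) = 1 := by
      rw [← h4]
      simp only [pow_succ, pow_zero, one_mul, mul_assoc]
    have hss : e * t * e * (e * t * e) = 1 := by
      calc e * t * e * (e * t * e) = e * (t * (e * e) * t) * e := by group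
        _ = 1 := by rw [hee, mul_one, I.t_sq, mul_one, hee]
    have hsi : (e * t * e)⁻¹ = e * t * e := inv_eq_of_mul_eq_one_left hss
    have h6 : (e * t * e) * t = t * (e * t * e) := by
      calc (e * t * e) * t = ((e * t * e) * t)⁻¹ := eq_inv_of_mul_eq_one_left h5
        _ = t⁻¹ * (e * t * e)⁻¹ := by group
        _ = t * (e * t * e) := by rw [hti, hsi]
    have h7 : e * t * e ≠ t := by
      intro h8
      apply h2
      rw [pow_two]
      calc e * t * (e * t) = e * t * e * t := by group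
        _ = 1 := by rw [h8, I.t_sq]
    have h8 := I.fourB e he h6 h7
    have h9 : e * t * e ∈ cls ⊤ t := ⟨e, Subgroup.mem_top _, by rw [hei]⟩
    have heu2 : e * u * e = u := by rw [heu, mul_assoc, hee, mul_one]
    refine (of_comm I hd hdt hdM h9 h6 ?_ ?_).elim h7 ?_
    · show e * t * e * u = u * (e * t * e)
      calc e * t * e * u = e * t * (e * u) := by group
        _ = e * (t * u) * e := by rw [heu]; group
        _ = e * u * (t * e) := by rw [← hut]; group
        _ = u * (e * t * e) := by rw [heu]; group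
    · show e * t * e * u ∈ cls ⊤ t
      have h10 : e * t * e * u = e * d * e⁻¹ := by
        calc e * t * e * u = e * t * (e * u) := by group
          _ = e * (t * u) * e := by rw [heu]; group
          _ = e * (t * t * d) * e := by rw [hu, ← mul_assoc t t d]
          _ = e * d * e⁻¹ := by rw [I.t_sq, one_mul, hei]
      rw [h10]
      exact cls_conj hd e
    · intro h10
      apply hdM
      rw [← h10]
      exact h8

/-- An element of odd order commuting with `u = t d` commutes with `t`. -/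
theorem comm_of_odd (I : Inner ⊤ P M z t t₁) {d x : G} (hd : d ∈ cls ⊤ t) (hdt : d * t = t * d) (hdM : d ∉ M)
    (hx : Odd (orderOf x)) (hxu : x * (t * d) = t * d * x) : x * t = t * x := by
  have hdd := sq_of_cls I hd
  have huu : t * d * (t * d) = 1 := by
    calc t * d * (t * d) = t * (d * t) * d := by group
      _ = t * (t * d) * d := by rw [hdt]
      _ = (t * t) * (d * d) := by group
      _ = 1 := by rw [I.t_sq, hdd, one_mul]
  have hxi : x⁻¹ * (t * d) = t * d * x⁻¹ := by
    rw [inv_mul_eq_iff_eq_mul, ← mul_assoc, hxu, mul_inv_cancel_right]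
  -- conjugates under `⟨x⟩` of `t` and `d`
  have key : ∀ e : G, e ∈ cls ⊤ t → e * (t * d) = t * d * e → e * (t * d) ∈ cls ⊤ t →
      x * e * x⁻¹ = t ∨ x * e * x⁻¹ = d := by
    intro e he h1 h2
    refine uniq I hd hdt hdM (cls_conj he x) ?_ ?_
    · calc x * e * x⁻¹ * (t * d) = x * e * (x⁻¹ * (t * d)) := by group
        _ = x * (e * (t * d)) * x⁻¹ := by rw [hxi]; group
        _ = x * (t * d) * e * x⁻¹ := by rw [h1]; group
        _ = t * d * (x * e * x⁻¹) := by rw [hxu]; group
    · have h3 : x * e * x⁻¹ * (t * d) = x * (e * (t * d)) * x⁻¹ := by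
        calc x * e * x⁻¹ * (t * d) = x * e * (x⁻¹ * (t * d)) := by group
          _ = _ := by rw [hxi]; group
      rw [h3]
      exact cls_conj h2 x
  have ht' : t ∈ cls ⊤ t := ⟨1, Subgroup.mem_top _, by group⟩
  have k1 := key t ht' (by rw [mul_assoc, hdt]) (by rwa [← mul_assoc, I.t_sq, one_mul])
  have k2 := key d hd (by
    calc d * (t * d) = d * t * d := by group
      _ = t * d * d := by rw [hdt]) (by
    have : d * (t * d) = t := by rw [← mul_assoc, hdt, mul_assoc, hdd, mul_one]
    rwa [this])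
  -- `x ^ 2` commutes with `t`
  have h2 : x ^ 2 * t = t * x ^ 2 := by
    rcases k1 with k1 | k1
    · rw [mul_inv_eq_iff_eq_mul] at k1
      rw [pow_two, mul_assoc, k1, ← mul_assoc, k1, mul_assoc]
    · have k3 : x * d * x⁻¹ = t := by
        rcases k2 with k2 | k2
        · exact k2
        · exfalso
          have h3 : t = d := by
            have h4 : x * t * x⁻¹ = x * d * x⁻¹ := by rw [k1, k2]
            exact mul_left_cancel (mul_right_cancel h4)
          apply hdM
          rw [← h3]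
          exact I.tM
      rw [mul_inv_eq_iff_eq_mul] at k1 k3
      rw [pow_two, mul_assoc, k1, ← mul_assoc, k3, mul_assoc]
  obtain ⟨k, hk⟩ := hx
  have h3 : x = (x ^ 2) ^ (k + 1) := by
    rw [← pow_mul, show 2 * (k + 1) = orderOf x + 1 by omega, pow_succ, pow_orderOf_eq_one, one_mul]
  have h4 : Commute (x ^ 2) t := h2
  rw [h3]
  exact h4.pow_left (k + 1)

end Cfsg.Agent.BabyComp.Uniq

end

-- merged: Cfsg.Agent.BabyComp.BaseTwo
section

/-!
# More facts on the transpositions of the presented Baby Monster (helper30)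

`Base2 t M₁` : `Base t M₁` and: `uniq` (a product `t d` of two commuting transpositions, `d ∉ M₁`, determines `t` and `d`),
`comm_of_odd` (elements of odd order commuting with `t d` commute with `t`), `prod_ne`.
-/

set_option autoImplicit false

open Subgroup

namespace Cfsg.Agent.BabyComp.BaseTwo

open Cfsg Cfsg.Agent.BabyComp.Main

/-- the facts -/
structure Base2 {X : Type*} [Group X] (t : X) (M₁ : Subgroup X) : Prop extends Base t M₁ where
  uniq : ∀ d e, IsConj t d → d * t = t * d → d ∉ M₁ → IsConj t e → e * (t * d) = t * d * e → IsConj t (e * (t * d)) →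
    e = t ∨ e = d
  comm_of_odd : ∀ d x, IsConj t d → d * t = t * d → d ∉ M₁ → Odd (orderOf x) → x * (t * d) = t * d * x → x * t = t * x
  prod_ne : ∀ e, IsConj t e → e ∈ M₁ → e ≠ t → ¬ IsConj t (t * e)

/-- Transport of the facts `Inner ⊤ …`. -/
theorem base2_of {X Γ : Type*} [Group X] [Group Γ] {P M₁ : Subgroup Γ} {z τ τ₁ : Γ}
    (I : BabyU.Clos.Inner ⊤ P M₁ z τ τ₁) (e : X ≃* Γ) {t : X} (ht : e t = τ)
    (hex : ∃ g : Γ, g * τ = τ * g ∧ g ∉ M₁) : Base2 t (M₁.comap e.toMonoidHom) := by
  have hcomm : ∀ a b : X, a * b = b * a ↔ e a * e b = e b * e a := by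
    intro a b
    rw [← map_mul, ← map_mul, e.injective.eq_iff]
  have hcls : ∀ s : X, e s ∈ BabyU.Clos.cls ⊤ τ ↔ IsConj t s := by
    intro s
    constructor
    · rintro ⟨h, -, hs⟩
      rw [isConj_iff]
      refine ⟨e.symm h, ?_⟩
      apply e.injective
      rw [map_mul, map_mul, map_inv, e.apply_symm_apply, ht, hs]
    · intro h
      obtain ⟨c, hc⟩ := isConj_iff.1 h
      refine ⟨e c, mem_top _, ?_⟩
      have h1 := congrArg e hc
      rwa [map_mul, map_mul, map_inv, ht] at h1
  refine ⟨BaseB.base_of I e ht hex, ?_, ?_, ?_⟩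
  · intro d f hd hdt hdM hf hfu hfu'
    have h1 := Uniq.uniq I (d := e d) (e := e f) ((hcls d).2 hd) (by rw [← ht]; exact (hcomm _ _).1 hdt) hdM
      ((hcls f).2 hf) (by rw [← ht, ← map_mul]; exact (hcomm _ _).1 hfu)
      (by rw [← ht, ← map_mul, ← map_mul]; rw [ht]; exact (hcls _).2 hfu')
    rcases h1 with h1 | h1
    · left
      apply e.injective
      rw [h1, ht]
    · right
      exact e.injective h1
  · intro d x hd hdt hdM hx hxu
    rw [hcomm, ht]
    refine Uniq.comm_of_odd I (d := e d) ((hcls d).2 hd) (by rw [← ht]; exact (hcomm _ _).1 hdt) hdM ?_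
      (by rw [← ht, ← map_mul]; exact (hcomm _ _).1 hxu)
    rwa [MulEquiv.orderOf_eq]
  · intro f hf hfM hne hcon
    refine Uniq.prod_ne I (e := e f) ((hcls f).2 hf) hfM ?_ ?_
    · intro h
      exact hne (e.injective (by rw [h, ht]))
    · rw [← ht, ← map_mul, ht]
      exact (hcls _).2 hcon

/-- **The class of `t1` in the presented Baby Monster.** -/
theorem exists_base2 {t : Spor.BabyMonster}
    (ht : IsConj t (PresentedGroup.of Spor.BabyMonster.Gen.t1 : Spor.BabyMonster)) :
    ∃ M₁ : Subgroup Spor.BabyMonster, Base2 t M₁ := by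
  obtain ⟨f, P, M₁, z, τ, τ₁, I, ⟨g, hg⟩, hex⟩ := BabyU.ModelInst.model.iso
  obtain ⟨c, hc⟩ := isConj_iff.1 ht
  let e := f.trans (MulAut.conj (g⁻¹ * f c))
  have he : e t = τ := by
    show (g⁻¹ * f c) * f t * (g⁻¹ * f c)⁻¹ = τ
    have h1 : f c * f t * (f c)⁻¹ = g * τ * g⁻¹ := by rw [← hg, ← hc, map_mul, map_mul, map_inv]
    calc (g⁻¹ * f c) * f t * (g⁻¹ * f c)⁻¹ = g⁻¹ * (f c * f t * (f c)⁻¹) * g := by group
      _ = τ := by rw [h1]; group
  exact ⟨_, base2_of I e he hex⟩

/-- Two subgroups `M₁` as in `Base` with an element outside of both are equal when one knows the image of `C_B(y 5)`. -/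
theorem Base.eq_map {B X : Type*} [Group B] [Group X] [Finite B] [Finite X] {q : B →* X} {τ : B} (hq : Cfsg.Agent.R01.Lifts.Ext q τ)
    {y : ℕ → B} (h10 : y 10 = τ) (big : Cfsg.Agent.MonsterN.KEq.Big B τ (y 5)) {M₁ : Subgroup X}
    (Bs : Base (q (y 5)) M₁) : M₁ = (Cfsg.Agent.MonsterN.KK y).map q := by
  apply le_antisymm
  · intro m hm
    obtain ⟨k, hk, rfl⟩ := M_le hq h10 big Bs m hm
    exact ⟨k, hk, rfl⟩
  · have hle : ∀ m : B, m * y 5 = y 5 * m → m ∈ M₁.comap q := by
      refine big.ind _ ?_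
      intro m1 m2 h1 h2 hn1 hn2
      rw [mem_comap, map_mul]
      exact Bs.M_index _ _ (by rw [← map_mul, h1, map_mul]) (by rw [← map_mul, h2, map_mul]) hn1 hn2
    rintro _ ⟨k, hk, rfl⟩
    exact hle k (Cfsg.Agent.MonsterN.mem_KK.1 hk).2

end Cfsg.Agent.BabyComp.BaseTwo

end
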