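import Cfsg.Agent.BabyComp.Sec
import Cfsg.Agent.CTwoTab.Card
import Cfsg.Agent.CTwoTab.Exc
import Cfsg.Agent.BabyU.Lab
import Cfsg.Agent.BabyU.Key
import Cfsg.Agent.MonsterN.Lit
import Cfsg.Agent.Co2Type.Quad

-- merged: Cfsg.Agent.BabyComp.CaseTwo
section

/-!
# Components of `C(u)`, `u` the product of two commuting transpositions (helper30)

`main` : every component `K` of `C(u)` is simple, and isomorphic to a simple normal subgroup `L` with
`C(L) = 1` of the group of fixed points of an automorphism of order 2 of `E`; the centralizers of the involutions of `L`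
are of characteristic 2.
-/

set_option autoImplicit false

namespace Cfsg.Agent.BabyComp.CaseTwo

open Subgroup Cfsg Cfsg.Agent.CTwoTab Cfsg.Agent.CpAut Cfsg.Agent.CpAut.TwoAbs
open Cfsg.Agent.SignalizersComponents

universe u v

/-- A component of `C(u)` has even order if `O(C(u)) = 1`. -/
theorem even_comp {X : Type u} [Group X] [Finite X] {u : X} (hb : centralizerPPrimeCore 2 u = ⊥) {K : Subgroup X}
    (hK : IsComponentOf K (centralizer ({u} : Set X))) : 2 ∣ Nat.card ↥K := by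
  by_contra hc
  have h0 : pPrimeCore 2 ↥(centralizer ({u} : Set X)) = ⊥ := centralizerPPrimeCore_eq_bot_iff.1 hb
  set K' := K.subgroupOf (centralizer ({u} : Set X)) with hK'
  have hcard : Nat.card ↥K' = Nat.card ↥K := Nat.card_congr (subgroupOfEquivOfLe hK.1).toEquiv
  have h1 : (pPrimeCore 2 ↥K').map K'.subtype = ⊥ := by
    rw [CompBasic.map_subtype_pPrimeCore_of_subnormal 2 hK.2.1, h0, inf_bot_eq]
  have h2 : pPrimeCore 2 ↥K' = ⊥ := (map_eq_bot_iff_of_injective _ K'.subtype_injective).1 h1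
  have h3 : (⊤ : Subgroup ↥K') ≤ pPrimeCore 2 ↥K' := by
    refine Lib.Cores.le_pPrimeCore inferInstance ?_
    rw [card_top, hcard]
    exact (Nat.prime_two.coprime_iff_not_dvd.2 hc).symm
  rw [h2, le_bot_iff] at h3
  have h4 := Components.quasisimple_nontrivial hK.2.2
  exact bot_ne_top h3.symm

/-- One side: `K` and the automorphism induced on `C(d) / ⟨d⟩`. -/
theorem side {X : Type u} [Group X] [Finite X] {E : Type v} [Group E] [Finite E]
    (hE : ∀ v : E, orderOf v = 2 → IsOfCharacteristicTwo ↥(centralizer ({v} : Set E)))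
    {d : X} {X₀ : Subgroup X} {σ : ↥X₀ →* E} (H : Sec.Data d σ)
    {u : X} (hu : u * u = 1) (hu1 : u ≠ 1) (hud : u ≠ d) (hc : u * d = d * u)
    (hb : centralizerPPrimeCore 2 u = ⊥) {K : Subgroup X}
    (hK : IsComponentOf K (centralizer ({u} : Set X))) (hKd : K ≤ centralizer ({d} : Set X)) :
    ∃ (x : MulAut E) (L : Subgroup ↥(fixedSubgroup x)) (f : ↥K →* ↥L), orderOf x = 2 ∧
      (∀ m : ↥X₀, x (σ m) = σ (Sec.cj H hc m)) ∧
      IsSimpleGroup ↥L ∧ ¬ IsMulCommutative ↥L ∧ L.Normal ∧ centralizer (L : Set ↥(fixedSubgroup x)) = ⊥ ∧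
      (∀ v : ↥L, orderOf v = 2 → IsOfCharacteristicTwo ↥(centralizer ({v} : Set ↥L))) ∧
      Function.Surjective f ∧ (∀ k : ↥K, f k = 1 ↔ (k : X) = 1 ∨ (k : X) = d) ∧
      ∀ z ∈ center ↥K, (z : X) = 1 ∨ (z : X) = d := by
  obtain ⟨x, hx, hxx⟩ := Sec.exists_aut H hc hu
  have hx2 := Sec.orderOf_aut H hc hu1 hud hx hxx
  obtain ⟨L, f, hL, hf, hker⟩ := Sec.exists_comp H hc hx hK hKd
  have hKq := Abs.quasisimple_of_comp hK
  have h2 : 2 ∣ Nat.card ↥L := by
    refine Fix.even_of_perfect hKq.1 f hf ?_ (even_comp hb hK)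
    -- the kernel
    have h1 : Nat.card ↥f.ker ≤ 2 := by
      have hinj : Function.Injective (fun k : ↥f.ker => (⟨((k : ↥K) : X), by
          have := (hker k).1 k.2
          rcases this with h | h
          · rw [h]; exact one_mem _
          · rw [h]; exact mem_zpowers d⟩ : ↥(zpowers d))) := by
        intro a b hab
        have h := congrArg (fun y : ↥(zpowers d) => (y : X)) hab
        exact Subtype.ext (Subtype.ext h)
      refine (Nat.card_le_card_of_injective _ hinj).trans ?_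
      rw [Nat.card_zpowers]
      exact orderOf_le_of_pow_eq_one (by norm_num) (by rw [pow_two, H.t_sq])
    have h3 : 0 < Nat.card ↥f.ker := Nat.card_pos
    have h4 : Nat.card ↥f.ker = 1 ∨ Nat.card ↥f.ker = 2 := by omega
    rcases h4 with h | h <;> rw [h]
    norm_num
  obtain ⟨hs, hLn, hCL, hct⟩ := Fix.comp_simple (X := ↥(fixedSubgroup x)) (fun v hv => by
    refine ct_cent_fix hxx v (hE v ?_)
    rw [Subgroup.orderOf_coe, hv]) L hL h2
  have hna : ¬ IsMulCommutative ↥L := Components.quasisimple_not_isMulCommutative hL.2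
  refine ⟨x, L, f, hx2, hx, hs, hna, hLn, hCL, hct, hf, hker, ?_⟩
  intro z hz
  rw [← hker]
  have h3 := CTwoTab.center_eq_bot_of_simple hna
  have h4 : f z ∈ center ↥L := by
    rw [mem_center_iff]
    intro l
    obtain ⟨k, rfl⟩ := hf l
    rw [← map_mul, ← map_mul, mem_center_iff.1 hz k]
  rw [h3, mem_bot] at h4
  exact h4

/-- **Main.** -/
theorem main {X : Type u} [Group X] [Finite X] {E : Type v} [Group E] [Finite E]
    (hE : ∀ v : E, orderOf v = 2 → IsOfCharacteristicTwo ↥(centralizer ({v} : Set E)))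
    {T : Set X} (HT : Pair.Trans T)
    (hsec : ∀ d ∈ T, ∃ (X₀ : Subgroup X) (σ : ↥X₀ →* E), Sec.Data d σ)
    {u d : X} (hu : u * u = 1) (hu1 : u ≠ 1) (hd : d ∈ T) (hc : u * d = d * u) (hud : u * d ∈ T)
    (hb : centralizerPPrimeCore 2 u = ⊥) {K : Subgroup X}
    (hK : IsComponentOf K (centralizer ({u} : Set X))) :
    ∃ (X₀ : Subgroup X) (σ : ↥X₀ →* E) (H : Sec.Data d σ) (x : MulAut E) (L : Subgroup ↥(fixedSubgroup x)),
      orderOf x = 2 ∧ (∀ m : ↥X₀, x (σ m) = σ (Sec.cj H hc m)) ∧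
      IsSimpleGroup ↥L ∧ ¬ IsMulCommutative ↥L ∧ L.Normal ∧ centralizer (L : Set ↥(fixedSubgroup x)) = ⊥ ∧
      (∀ v : ↥L, orderOf v = 2 → IsOfCharacteristicTwo ↥(centralizer ({v} : Set ↥L))) ∧ Nonempty (↥K ≃* ↥L) := by
  have hKd := Pair.comm_of_pair HT hu hu1 hd hc hud hK
  have hKd' : K ≤ centralizer ({d} : Set X) := fun k hk => mem_centralizer_singleton_iff.2 (hKd k hk)
  have hdd := HT.sq d hd
  -- the other transposition
  obtain ⟨e, he⟩ : ∃ e, e = u * d := ⟨_, rfl⟩
  have hce : u * e = e * u := by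
    rw [he]
    calc u * (u * d) = u * (d * u) := by rw [hc]
      _ = u * d * u := by group
  have hKe : K ≤ centralizer ({e} : Set X) := by
    intro k hk
    have h1 := mem_centralizer_singleton_iff.1 (hK.1 hk)
    rw [mem_centralizer_singleton_iff, he]
    calc k * (u * d) = (k * u) * d := by group
      _ = u * (k * d) := by rw [h1]; group
      _ = u * d * k := by rw [hKd k hk]; group
  have hude : u ≠ d := by
    rintro rfl
    exact HT.ne _ hud hu
  have hue : u ≠ e := by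
    intro h
    rw [he] at h
    exact HT.ne d hd (mul_eq_left.1 h.symm)
  obtain ⟨X₀, σ, H⟩ := hsec d hd
  obtain ⟨X₁, σ₁, H₁⟩ := hsec e (he ▸ hud)
  obtain ⟨x, L, f, hx2, hx, hs, hna, hLn, hCL, hct, hf, hker, hz⟩ := side hE H hu hu1 hude hc hb hK hKd'
  obtain ⟨-, -, -, -, -, -, -, -, -, -, -, -, hz₁⟩ := side hE H₁ hu hu1 hue hce hb hK hKe
  have hzK : center ↥K = ⊥ := by
    rw [eq_bot_iff]
    intro z hz'
    rw [mem_bot]
    apply Subtype.ext
    rcases hz z hz' with h | h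
    · exact h
    · rcases hz₁ z hz' with h' | h'
      · exact h'
      · exfalso
        apply hu1
        rw [he] at h'
        have h2 : d = u * d := h.symm.trans h'
        exact (mul_eq_right.1 h2.symm)
  have hinj : Function.Injective f := by
    rw [injective_iff_map_eq_one]
    intro k hk
    rcases (hker k).1 hk with h | h
    · exact Subtype.ext h
    · have h1 : k ∈ center ↥K := by
        rw [mem_center_iff]
        intro g
        apply Subtype.ext
        show (g : X) * k = k * g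
        rw [h]
        exact hKd g g.2
      rw [hzK, mem_bot] at h1
      exact h1
  exact ⟨X₀, σ, H, x, L, hx2, hx, hs, hna, hLn, hCL, hct, ⟨MulEquiv.ofBijective f ⟨hinj, hf⟩⟩⟩

/-- **The components are good.** -/
theorem good {X : Type u} [Group X] [Finite X] {E : Type v} [Group E] [Finite E]
    (hS : AllKnown.{v}) (hTab : Table.{v})
    (hE : ∀ v : E, orderOf v = 2 → IsOfCharacteristicTwo ↥(centralizer ({v} : Set E)))
    {T : Set X} (HT : Pair.Trans T)
    (hsec : ∀ d ∈ T, ∃ (X₀ : Subgroup X) (σ : ↥X₀ →* E), Sec.Data d σ)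
    {u d : X} (hu : u * u = 1) (hu1 : u ≠ 1) (hd : d ∈ T) (hc : u * d = d * u) (hud : u * d ∈ T)
    (hb : centralizerPPrimeCore 2 u = ⊥) {K : Subgroup X}
    (hK : IsComponentOf K (centralizer ({u} : Set X))) : Good ↥K := by
  obtain ⟨-, -, -, x, L, -, -, hs, hna, -, -, hct, ⟨e⟩⟩ := main hE HT hsec hu hu1 hd hc hud hb hK
  exact (good_of_simple hna (hTab ↥L hna (hS ↥L) hct)).congr e.symm

end Cfsg.Agent.BabyComp.CaseTwo

end

-- merged: Cfsg.Agent.BabyComp.TwoA
section

/-!
# Components of `C(t)`, `X₀ / ⟨t⟩ ≅ E` simple (helper30)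
-/

set_option autoImplicit false

namespace Cfsg.Agent.BabyComp.TwoA

open Subgroup Cfsg Cfsg.Agent.CTwoTab
open Cfsg.Agent.SignalizersComponents

variable {X E : Type*} [Group X] [Finite X] [Group E] [IsSimpleGroup E] {t : X} {X₀ : Subgroup X} {σ : ↥X₀ →* E}

/-- **A component `K` of `C(t)` is mapped onto `E`.** -/
theorem exists_hom (H : Sec.Data t σ) {K : Subgroup X} (hK : IsComponentOf K (centralizer ({t} : Set X))) :
    ∃ f : ↥K →* E, Function.Surjective f ∧ (∀ k : ↥K, f k = 1 ↔ (k : X) = 1 ∨ (k : X) = t) ∧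
      f.ker ≤ center ↥K := by
  have hperf := isPerfect_of_comp hK
  have hKX : K ≤ X₀ := H.perf K hK.1 hperf
  have hXC : X₀ ≤ centralizer ({t} : Set X) := fun m hm => mem_centralizer_singleton_iff.2 (H.comm m hm)
  have hK' := Abs.comp_mono hK hKX hXC
  let f : ↥K →* E := σ.comp (Subgroup.inclusion hKX)
  have hker : ∀ k : ↥K, f k = 1 ↔ (k : X) = 1 ∨ (k : X) = t := fun k => H.ker (Subgroup.inclusion hKX k)
  have hcen : f.ker ≤ center ↥K := by
    intro z hz
    rw [mem_center_iff]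
    intro g
    apply Subtype.ext
    show (g : X) * z = z * g
    rcases (hker z).1 hz with h | h
    · rw [h, mul_one, one_mul]
    · rw [h, H.comm _ (hKX g.2)]
  refine ⟨f, ?_, hker, hcen⟩
  have hnab := Components.quasisimple_not_isMulCommutative (Abs.quasisimple_of_comp hK)
  rcases ComponentImage.map_eq_bot_or_isComponent H.surj hK'.2 with h | h
  · exfalso
    apply hnab
    refine ⟨⟨fun a b => ?_⟩⟩
    have h1 : a ∈ f.ker := by
      have h2 : σ ⟨a, hKX a.2⟩ ∈ (K.subgroupOf X₀).map σ := ⟨⟨a, hKX a.2⟩, a.2, rfl⟩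
      rw [h, mem_bot] at h2
      exact h2
    exact ((mem_center_iff.1 (hcen h1)) b).symm
  · have h1 : (K.subgroupOf X₀).map σ = ⊤ := by
      rcases h.1.eq_bot_or_top_of_isSimpleGroup inferInstance with h2 | h2
      · exact absurd h2 (Components.component_ne_bot h)
      · exact h2
    intro e
    have h2 : e ∈ (K.subgroupOf X₀).map σ := by rw [h1]; exact mem_top e
    obtain ⟨m, hm, rfl⟩ := h2
    exact ⟨⟨m, hm⟩, rfl⟩

/-- **The components of `C(t)` are good.** -/
theorem good (H : Sec.Data t σ) (hna : ∃ a b : E, a * b ≠ b * a) (hE : IsCpSimple 2 E) {N : ℕ}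
    (hN : Nat.card E = N) (hq : ∀ q, IsFM9 q → q * (q ^ 2 - 1) ≠ 2 * N)
    (h8 : N ≠ 20160) (h43 : N ≠ 6065280) (hsp : N ≠ 25920) (hsu : N ≠ 3265920)
    {K : Subgroup X} (hK : IsComponentOf K (centralizer ({t} : Set X))) : Good ↥K := by
  obtain ⟨f, hf, -, hc⟩ := exists_hom H hK
  have e := quoCenterEquiv hf (simple_center_eq_bot hna) hc
  refine good_of_card (isCpSimple_two_congr e.symm hE) (N := N) ?_ hq (Or.inl h8) h43 hsp hsu (Or.inl h8)
  rw [Nat.card_congr e.toEquiv, hN]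

end Cfsg.Agent.BabyComp.TwoA

end

-- merged: Cfsg.Agent.BabyComp.LiftRoot
section

/-!
# Lifting the involutions of `²E₆(2)` to `2².²E₆(2)` (helper30)

`π : M → E` onto with kernel `{1, a, b, a b}`, `a`, `b` central involutions, some lift of a root an involution:
`m * m = 1` whenever `π m * π m = 1` (`sq_of_sq`).
-/

set_option autoImplicit false

namespace Cfsg.Agent.BabyComp.LiftRoot

open Subgroup Cfsg.Agent.BabyU.Lab Cfsg.Agent.BabyU.RootCfg Cfsg.Agent.BabyU.Key

/-- The data of the cover. -/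
structure Four {M E : Type*} [Group M] [Group E] (π : M →* E) (a b : M) : Prop where
  surj : Function.Surjective π
  ker : ∀ k, π k = 1 ↔ k = 1 ∨ k = a ∨ k = b ∨ k = a * b
  aa : a * a = 1
  bb : b * b = 1
  ac : ∀ k, a * k = k * a
  bc : ∀ k, b * k = k * b
  ne : a ≠ b
  a1 : a ≠ 1
  b1 : b ≠ 1

section

variable {M E : Type*} [Group M] [Group E] {π : M →* E}

theorem ker_comm {a b : M} (H : Four π a b) {v : M} (hv : π v = 1) (k : M) : v * k = k * v := by
  rcases (H.ker v).1 hv with rfl | rfl | rfl | rfl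
  · rw [one_mul, mul_one]
  · exact H.ac k
  · exact H.bc k
  · rw [mul_assoc, H.bc, ← mul_assoc, H.ac, mul_assoc]

theorem ker_sq {a b : M} (H : Four π a b) {v : M} (hv : π v = 1) : v * v = 1 := by
  rcases (H.ker v).1 hv with rfl | rfl | rfl | rfl
  · rw [one_mul]
  · exact H.aa
  · exact H.bb
  · calc a * b * (a * b) = a * (b * a) * b := by group
      _ = (a * a) * (b * b) := by rw [H.bc]; group
      _ = 1 := by rw [H.aa, H.bb, one_mul]

/-- Passage to the quotient by a central involution `v` of the kernel. -/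
theorem commute_aux {T : Set E} (R : Roots E T) {v c : M} (hπ : Function.Surjective π)
    (hv : v * v = 1) (hvc : ∀ k, v * k = k * v) (hker : ∀ k, π k = 1 ↔ k = 1 ∨ k = v ∨ k = c ∨ k = c * v)
    (hc1 : c ≠ 1) (hcv : c ≠ v) {x y : M} (hx : π x ∈ T) (h : π x * π y = π y * π x) :
    x * y * x⁻¹ * y⁻¹ ≠ c := by
  intro he
  have hN : (zpowers v).Normal := ⟨fun n hn g => by
    obtain ⟨j, rfl⟩ := mem_zpowers_iff.1 hn
    have h1 : Commute g (v ^ j) := ((show Commute v g from hvc g).zpow_left j).symm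
    rw [h1.eq, mul_inv_cancel_right]
    exact hn⟩
  have hmem : ∀ k, k ∈ zpowers v ↔ k = 1 ∨ k = v := by
    intro k
    constructor
    · intro hk
      obtain ⟨j, rfl⟩ := mem_zpowers_iff.1 hk
      rcases Int.even_or_odd j with ⟨i, rfl⟩ | ⟨i, rfl⟩
      · left; rw [← two_mul, zpow_mul, zpow_two, hv, one_zpow]
      · right; rw [zpow_add, zpow_mul, zpow_two, hv, one_zpow, one_mul, zpow_one]
    · rintro (rfl | rfl)
      · exact one_mem _
      · exact mem_zpowers _
  have hle : zpowers v ≤ π.ker := by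
    rw [zpowers_le, MonoidHom.mem_ker, hker]
    exact Or.inr (Or.inl rfl)
  let ρ : M ⧸ zpowers v →* E := QuotientGroup.lift (zpowers v) π hle
  have hρ : ∀ m : M, ρ (m : M ⧸ zpowers v) = π m := fun m => rfl
  have C : Cover ρ (c : M ⧸ zpowers v) := by
    refine ⟨?_, ?_, ?_⟩
    · intro e
      obtain ⟨m, rfl⟩ := hπ e
      exact ⟨(m : M ⧸ zpowers v), rfl⟩
    · intro m
      obtain ⟨m, rfl⟩ := QuotientGroup.mk_surjective m
      rw [hρ, hker, QuotientGroup.eq_one_iff, hmem, QuotientGroup.eq, hmem]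
      constructor
      · rintro (h1 | h1 | h1 | h1)
        · exact Or.inl (Or.inl h1)
        · exact Or.inl (Or.inr h1)
        · right; left; rw [h1, inv_mul_cancel]
        · right; right
          have hvi : v⁻¹ = v := inv_eq_of_mul_eq_one_left hv
          rw [h1, mul_inv_rev, hvi, inv_mul_cancel_right]
      · rintro ((h1 | h1) | (h1 | h1))
        · exact Or.inl h1
        · exact Or.inr (Or.inl h1)
        · right; right; left
          exact inv_mul_eq_one.1 h1
        · right; right; right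
          have h2 : m = c * v⁻¹ := by rw [← h1]; group
          have hvi : v⁻¹ = v := inv_eq_of_mul_eq_one_left hv
          rw [h2, hvi]
    · rw [Ne, QuotientGroup.eq_one_iff, hmem]
      rintro (h1 | h1)
      · exact hc1 h1
      · exact hcv h1
  have h2 := commute_lift C R (x := (x : M ⧸ zpowers v)) (y := (y : M ⧸ zpowers v)) hx h
  have h3 : ((c : M) : M ⧸ zpowers v) = 1 := by
    have h4 : c = (x * y) * (y * x)⁻¹ := by rw [← he]; group
    rw [h4, QuotientGroup.mk_mul, QuotientGroup.mk_inv, QuotientGroup.mk_mul, QuotientGroup.mk_mul, h2,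
      mul_inv_cancel]
  rw [QuotientGroup.eq_one_iff, hmem] at h3
  rcases h3 with h3 | h3
  · exact hc1 h3
  · exact hcv h3

/-- **Lifts of commuting elements commute if one of the elements is a root.** -/
theorem commute_lift {T : Set E} (R : Roots E T) {a b : M} (H : Four π a b) {x y : M} (hx : π x ∈ T)
    (h : π x * π y = π y * π x) : x * y = y * x := by
  by_contra hne
  obtain ⟨c, hc⟩ : ∃ c, c = x * y * x⁻¹ * y⁻¹ := ⟨_, rfl⟩
  have hc1 : c ≠ 1 := by
    intro e
    apply hne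
    rw [hc] at e
    have h1 : x * y = (x * y * x⁻¹ * y⁻¹) * (y * x) := by group
    rw [h1, e, one_mul]
  have hck : π c = 1 := by
    rw [hc, map_mul, map_mul, map_mul, map_inv, map_inv, h]
    group
  have hab : a * b = b * a := H.ac b
  rcases (H.ker c).1 hck with h1 | h1 | h1 | h1
  · exact hc1 h1
  · -- `c = a`, `v = b`
    refine commute_aux R H.surj H.bb H.bc (c := c) ?_ hc1 (by rw [h1]; exact H.ne) hx h hc.symm
    intro k
    rw [H.ker, h1]
    constructor
    · rintro (h | h | h | h)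
      · exact Or.inl h
      · exact Or.inr (Or.inr (Or.inl h))
      · exact Or.inr (Or.inl h)
      · exact Or.inr (Or.inr (Or.inr h))
    · rintro (h | h | h | h)
      · exact Or.inl h
      · exact Or.inr (Or.inr (Or.inl h))
      · exact Or.inr (Or.inl h)
      · exact Or.inr (Or.inr (Or.inr h))
  · -- `c = b`, `v = a`
    refine commute_aux R H.surj H.aa H.ac (c := c) ?_ hc1 (by rw [h1]; exact H.ne.symm) hx h hc.symm
    intro k
    rw [H.ker, h1, hab]
  · -- `c = a b`, `v = a`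
    refine commute_aux R H.surj H.aa H.ac (c := c) ?_ hc1 (by
      rw [h1]
      intro e
      exact H.b1 (mul_eq_left.1 e)) hx h hc.symm
    intro k
    have h2 : a * b * a = b := by rw [hab, mul_assoc, H.aa, mul_one]
    rw [H.ker, h1, h2]
    constructor
    · rintro (h | h | h | h)
      · exact Or.inl h
      · exact Or.inr (Or.inl h)
      · exact Or.inr (Or.inr (Or.inr h))
      · exact Or.inr (Or.inr (Or.inl h))
    · rintro (h | h | h | h)
      · exact Or.inl h
      · exact Or.inr (Or.inl h)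
      · exact Or.inr (Or.inr (Or.inr h))
      · exact Or.inr (Or.inr (Or.inl h))

/-- All lifts of roots are involutions. -/
theorem sq_root {T : Set E} (R : Roots E T) {a b : M} (H : Four π a b) {m₀ : M} (h₀ : π m₀ ∈ T) (hm₀ : m₀ * m₀ = 1)
    {m : M} (hm : π m ∈ T) : m * m = 1 := by
  obtain ⟨g, hg⟩ := R.one _ h₀ _ hm
  obtain ⟨k, rfl⟩ := H.surj g
  obtain ⟨v, hv⟩ : ∃ v, v = (k * m₀ * k⁻¹)⁻¹ * m := ⟨_, rfl⟩
  have hv1 : π v = 1 := by
    rw [hv, map_mul, map_inv, map_mul, map_mul, map_inv, hg, inv_mul_cancel]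
  have hm' : m = k * m₀ * k⁻¹ * v := by rw [hv, mul_inv_cancel_left]
  rw [hm']
  calc k * m₀ * k⁻¹ * v * (k * m₀ * k⁻¹ * v) = k * m₀ * k⁻¹ * (v * (k * m₀ * k⁻¹)) * v := by group
    _ = k * (m₀ * m₀) * k⁻¹ * (v * v) := by rw [ker_comm H hv1]; group
    _ = 1 := by rw [hm₀, ker_sq H hv1]; group

theorem sq_mul_of {x y : M} (hx : x * x = 1) (hy : y * y = 1) (h : x * y = y * x) : x * y * (x * y) = 1 := by
  calc x * y * (x * y) = x * (y * x) * y := by group
    _ = (x * x) * (y * y) := by rw [← h]; group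
    _ = 1 := by rw [hx, hy, one_mul]

/-- **Elements with an involution as image are involutions.** -/
theorem sq_of_types {T : Set E} (R : Roots E T) {a b : M} (H : Four π a b) {m₀ : M} (h₀ : π m₀ ∈ T)
    (hm₀ : m₀ * m₀ = 1) {m : M} (hm : Types T (π m)) : m * m = 1 := by
  -- from a lift of `π m`
  have key : ∀ n : M, π n = π m → n * n = 1 → m * m = 1 := by
    intro n hn hnn
    obtain ⟨v, hv⟩ : ∃ v, v = n⁻¹ * m := ⟨_, rfl⟩
    have hv1 : π v = 1 := by rw [hv, map_mul, map_inv, hn, inv_mul_cancel]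
    have hm' : m = n * v := by rw [hv, mul_inv_cancel_left]
    rw [hm']
    exact sq_mul_of hnn (ker_sq H hv1) (ker_comm H hv1 n).symm
  rcases hm with h | ⟨p, r, ⟨hp, hr, -, hpr, -⟩, h⟩ | ⟨p, r, s, ht, h⟩
  · exact sq_root R H h₀ hm₀ h
  · obtain ⟨p, rfl⟩ := H.surj p
    obtain ⟨r, rfl⟩ := H.surj r
    refine key (p * r) (by rw [map_mul, h]) ?_
    exact sq_mul_of (sq_root R H h₀ hm₀ hp) (sq_root R H h₀ hm₀ hr) (commute_lift R H hp hpr)
  · obtain ⟨p, rfl⟩ := H.surj p
    obtain ⟨r, rfl⟩ := H.surj r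
    obtain ⟨s, rfl⟩ := H.surj s
    have hpr := commute_lift R H ht.pR ht.pq
    have hps := commute_lift R H ht.pR ht.pr
    have hrs := commute_lift R H ht.qR ht.qr
    refine key (p * r * s) (by rw [map_mul, map_mul, h]) ?_
    refine sq_mul_of (sq_mul_of (sq_root R H h₀ hm₀ ht.pR) (sq_root R H h₀ hm₀ ht.qR) hpr)
      (sq_root R H h₀ hm₀ ht.rR) ?_
    calc p * r * s = p * (r * s) := mul_assoc _ _ _
      _ = p * s * r := by rw [hrs, mul_assoc]
      _ = s * (p * r) := by rw [hps, mul_assoc]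

/-- **Elements whose square is in the kernel are involutions.** -/
theorem sq_of_sq {F : Type*} [Field F] [Fintype F] {hF : Fintype.card F = 2 ^ 2} {T : Set E}
    (hR : RootFacts hF T) (hX : Extra hF T) (R : Roots E T) {a b : M} (H : Four π a b) {m₀ : M} (h₀ : π m₀ ∈ T)
    (hm₀ : m₀ * m₀ = 1) {m : M} (hm : π m * π m = 1) : m * m = 1 := by
  by_cases h1 : π m = 1
  · exact ker_sq H h1
  · exact sq_of_types R H h₀ hm₀ (key hR hX (π m) hm h1)

end

end Cfsg.Agent.BabyComp.LiftRoot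

end

-- merged: Cfsg.Agent.BabyComp.Main
section

/-!
# Components of the centralizers of involutions of the Baby Monster (helper30)

`q : B → X` onto with kernel `{1, τ}`, `B = C_Γ(θ τ)`; `y` the nodes of `B`, `π : KK y → E`.
-/

set_option autoImplicit false
set_option linter.unusedSectionVars false

namespace Cfsg.Agent.BabyComp.Main

open Subgroup Cfsg Cfsg.Agent.CTwoTab Cfsg.Agent.R01.Lifts Cfsg.Agent.MonsterN Cfsg.Agent.MonsterN.Lit
open Cfsg.Agent.SignalizersComponents

/-! ### The section of `X` -/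

section sec

variable {B X E : Type*} [Group B] [Group X] [Group E] [Finite B] [Finite X] {q : B →* X} {τ : B} {R : Set E}
variable {y : ℕ → B} {h : Pre y} {π : KK y →* E}

/-- `π` on the image of `KK y`. -/
theorem exists_sigma (hq : Ext q τ) (h10 : y 10 = τ) (D : KD h R π) :
    ∃ σ : ↥((KK y).map q) →* E, ∀ k : ↥(KK y), σ ⟨q k, ⟨k, k.2, rfl⟩⟩ = π k := by
  have hs : Function.Surjective (q.subgroupMap (KK y)) := q.subgroupMap_surjective (KK y)
  have hker : (q.subgroupMap (KK y)).ker ≤ π.ker := by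
    intro k hk
    have h1 : q k = 1 := congrArg Subtype.val hk
    rw [MonoidHom.mem_ker, D.ker]
    rcases (hq.ker _).1 h1 with h2 | h2
    · exact Or.inl (Subtype.ext h2)
    · right; left
      exact Subtype.ext (h2.trans h10.symm)
  refine ⟨(q.subgroupMap (KK y)).liftOfSurjective hs ⟨π, hker⟩, fun k => ?_⟩
  exact MonoidHom.liftOfRightInverse_comp_apply _ _ _ ⟨π, hker⟩ k

/-- conjugation of `y 5` -/
theorem conj_five_or (hq : Ext q τ) {b : B} (hb : q b * q (y 5) = q (y 5) * q b) :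
    b * y 5 * b⁻¹ = y 5 ∨ b * y 5 * b⁻¹ = y 5 * τ := hq.conj_of_commute hb

theorem mem_KK' (hq : Ext q τ) (h10 : y 10 = τ) {b : B} : b ∈ KK y ↔ b * y 5 * b⁻¹ = y 5 := by
  rw [mem_KK, mul_inv_eq_iff_eq_mul]
  exact ⟨fun h => h.2, fun h => ⟨by rw [h10]; exact hq.comm b, h⟩⟩

/-- the section -/
theorem data (hq : Ext q τ) (h10 : y 10 = τ) (D : KD h R π) (big : KEq.Big B τ (y 5))
    {σ : ↥((KK y).map q) →* E} (hσ : ∀ k : ↥(KK y), σ ⟨q k, ⟨k, k.2, rfl⟩⟩ = π k) :
    Sec.Data (q (y 5)) σ := by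
  have h5 : y 5 * y 5 = 1 := h.sq 5 (by norm_num) (by norm_num)
  have hττ : τ * τ = 1 := hq.zz
  have hti : τ⁻¹ = τ := inv_eq_of_mul_eq_one_left hττ
  refine ⟨by rw [← map_mul, h5, map_one], ?_, ⟨y 5, h.five_mem, rfl⟩, ?_, ?_, ?_, ?_, ?_, ?_⟩
  · intro e
    rcases (hq.ker _).1 e with h1 | h1
    · exact D.ne1 h1
    · exact D.ne (h10.trans h1.symm)
  · rintro _ ⟨k, hk, rfl⟩
    rw [← map_mul, (mem_KK.1 hk).2, map_mul]
  · rintro g hg _ ⟨k, hk, rfl⟩
    obtain ⟨b, rfl⟩ := hq.surj g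
    refine ⟨b * k * b⁻¹, ?_, by rw [map_mul, map_mul, map_inv]⟩
    rw [SetLike.mem_coe, mem_KK' hq h10] at hk ⊢
    have h1 : b * k * b⁻¹ * y 5 * (b * k * b⁻¹)⁻¹ = b * (k * (b⁻¹ * y 5 * b) * k⁻¹) * b⁻¹ := by group
    have hg' : q b⁻¹ * q (y 5) = q (y 5) * q b⁻¹ := by
      rw [map_inv, inv_mul_eq_iff_eq_mul, ← mul_assoc, hg, mul_inv_cancel_right]
    have h2 := conj_five_or hq hg'
    rw [inv_inv] at h2
    have h4 : b * (b⁻¹ * y 5 * b) * b⁻¹ = y 5 := by group
    rw [h1]
    rcases h2 with h2 | h2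
    · rw [h2] at h4
      rw [h2, hk, h4]
    · rw [h2] at h4
      have h3 : k * (y 5 * τ) * k⁻¹ = y 5 * τ := by
        calc k * (y 5 * τ) * k⁻¹ = k * y 5 * (τ * k⁻¹) := by group
          _ = (k * y 5 * k⁻¹) * τ := by rw [← hq.comm]; group
          _ = y 5 * τ := by rw [hk]
      rw [h2, h3, h4]
  · intro K hK hperf
    have h1 := Abs.le_map hq hK hperf
    have h2 : KK y = centralizer ({y 5} : Set B) := by
      ext b
      rw [mem_KK, mem_centralizer_singleton_iff]
      exact ⟨fun hb => hb.2, fun hb => ⟨by rw [h10]; exact hq.comm b, hb⟩⟩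
    rwa [← h2] at h1
  · intro e
    obtain ⟨k, rfl⟩ := D.surj e
    exact ⟨⟨q k, ⟨k, k.2, rfl⟩⟩, hσ k⟩
  · rintro ⟨_, ⟨k, hk, rfl⟩⟩
    rw [hσ ⟨k, hk⟩, D.ker]
    show _ ↔ q k = 1 ∨ q k = q (y 5)
    constructor
    · rintro (h1 | h1 | h1 | h1)
      · left; rw [show k = 1 from congrArg Subtype.val h1, map_one]
      · left; rw [show k = y 10 from congrArg Subtype.val h1, h10]; exact hq.mapz
      · right; rw [show k = y 5 from congrArg Subtype.val h1]
      · right
        rw [show k = y 10 * y 5 from congrArg Subtype.val h1, map_mul, h10, hq.mapz, one_mul]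
    · rintro (h1 | h1)
      · rcases (hq.ker _).1 h1 with h2 | h2
        · exact Or.inl (Subtype.ext h2)
        · right; left
          exact Subtype.ext (h2.trans h10.symm)
      · rcases hq.map_eq.1 h1 with h2 | h2
        · right; right; left
          exact Subtype.ext h2
        · right; right; right
          apply Subtype.ext
          show k = y 10 * y 5
          rw [h2, h10, hq.comm]
  · intro u hu hum
    obtain ⟨b, rfl⟩ := hq.surj u
    have key1 : ∀ m : B, m * y 5 = y 5 * m → m ∈ (centralizer ({q b} : Set X)).comap q := by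
      refine big.ind _ ?_
      have hout : ∀ m : B, m * y 5 = y 5 * m → m ∉ (centralizer ({q b} : Set X)).comap q →
          q b * q m * (q b)⁻¹ = q m * q (y 5) := by
        intro m hm hmn
        refine (hum (q m) ⟨m, mem_KK.2 ⟨by rw [h10]; exact hq.comm m, hm⟩, rfl⟩).resolve_left ?_
        intro h1
        apply hmn
        rw [mem_comap, mem_centralizer_singleton_iff]
        exact (mul_inv_eq_iff_eq_mul.1 h1).symm
      intro m1 m2 hm1 hm2 h1 h2
      have e1 := hout m1 hm1 h1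
      have e2 := hout m2 hm2 h2
      rw [mem_comap, mem_centralizer_singleton_iff, eq_comm, ← mul_inv_eq_iff_eq_mul]
      have h3 : q b * q (m1 * m2) * (q b)⁻¹ = (q b * q m1 * (q b)⁻¹) * (q b * q m2 * (q b)⁻¹) := by
        rw [map_mul]; group
      rw [h3, e1, e2]
      have h4 : q m2 * q (y 5) = q (y 5) * q m2 := by rw [← map_mul, hm2, map_mul]
      calc q m1 * q (y 5) * (q m2 * q (y 5)) = q m1 * q (y 5) * (q (y 5) * q m2) := by rw [h4]
        _ = q m1 * (q (y 5) * q (y 5)) * q m2 := by group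
        _ = q (m1 * m2) := by rw [← map_mul q (y 5), h5, map_one, mul_one, map_mul]
    have key2 : ∀ m : B, m * y 5 = y 5 * m → m ∈ centralizer ({b} : Set B) := by
      refine big.ind _ ?_
      have hout : ∀ m : B, m * y 5 = y 5 * m → m ∉ centralizer ({b} : Set B) → b * m * b⁻¹ = m * τ := by
        intro m hm hmn
        have h1 := key1 m hm
        rw [mem_comap, mem_centralizer_singleton_iff] at h1
        refine (hq.conj_of_commute (g := b) (a := m) h1.symm).resolve_left ?_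
        intro h2
        apply hmn
        rw [mem_centralizer_singleton_iff]
        exact (mul_inv_eq_iff_eq_mul.1 h2).symm
      intro m1 m2 hm1 hm2 h1 h2
      have e1 := hout m1 hm1 h1
      have e2 := hout m2 hm2 h2
      rw [mem_centralizer_singleton_iff, eq_comm, ← mul_inv_eq_iff_eq_mul]
      have h3 : b * (m1 * m2) * b⁻¹ = (b * m1 * b⁻¹) * (b * m2 * b⁻¹) := by group
      rw [h3, e1, e2]
      calc m1 * τ * (m2 * τ) = m1 * (τ * (m2 * τ)) := by group
        _ = m1 * (m2 * τ * τ) := by rw [← hq.comm (m2 * τ)]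
        _ = m1 * m2 * (τ * τ) := by group
        _ = m1 * m2 := by rw [hττ, mul_one]
    rcases big.cen b (fun m hm => (mem_centralizer_singleton_iff.1 (key2 m hm)).symm) with h1 | h1 | h1 | h1
    · left; rw [h1, map_one]
    · left; rw [h1, hq.mapz]
    · right; rw [h1]
    · right; rw [h1, map_mul, hq.mapz, one_mul]

end sec

/-! ### The class of `t` -/

/-- The facts on the class of `t` and a subgroup `M₁` of index 2 of `C(t)`. -/
structure Base {X : Type*} [Group X] (t : X) (M₁ : Subgroup X) : Prop where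
  M_comm : ∀ m ∈ M₁, m * t = t * m
  M_index : ∀ g h : X, g * t = t * g → h * t = t * h → g ∉ M₁ → h ∉ M₁ → g * h ∈ M₁
  ex : ∃ g : X, g * t = t * g ∧ g ∉ M₁
  classes : ∀ u : X, u * u = 1 → u ≠ 1 →
    (∃ h : X, h⁻¹ * u * h ∈ M₁) ∨ ∃ d, IsConj t d ∧ u * d = d * u ∧ IsConj t (u * d)
  ord : ∀ s, IsConj t s → ∃ n : ℕ, 0 < n ∧ n ≤ 4 ∧ (s * t) ^ n = 1

theorem Base.trans {X : Type*} [Group X] [Finite X] {t : X} {M₁ : Subgroup X} (Bs : Base t M₁) (htt : t * t = 1)
    (ht : t ≠ 1) : Pair.Trans {s : X | IsConj t s} := by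
  refine ⟨?_, ?_, ?_, ?_⟩
  · intro s hs
    obtain ⟨g, rfl⟩ := isConj_iff.1 hs
    calc g * t * g⁻¹ * (g * t * g⁻¹) = g * (t * t) * g⁻¹ := by group
      _ = 1 := by rw [htt]; group
  · rintro s hs rfl
    exact ht (isConj_one_left.1 hs)
  · intro s hs g
    exact IsConj.trans hs (isConj_iff.2 ⟨g, rfl⟩)
  · intro s hs s' hs'
    obtain ⟨g, rfl⟩ := isConj_iff.1 hs'
    obtain ⟨n, h0, h4, hn⟩ := Bs.ord (g⁻¹ * s * g) (IsConj.trans hs (isConj_iff.2 ⟨g⁻¹, by group⟩))
    refine ⟨n, h0, h4, ?_⟩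
    have h1 : s * (g * t * g⁻¹) = g * (g⁻¹ * s * g * t) * g⁻¹ := by group
    rw [h1, conj_pow, hn, mul_one, mul_inv_cancel]

section main

variable {B X E : Type*} [Group B] [Group X] [Group E] [Finite B] [Finite X] {q : B →* X} {τ : B} {R : Set E}
variable {y : ℕ → B} {h : Pre y} {π : KK y →* E}

/-- `M₁` is the image of `C_B(y 5)`. -/
theorem M_le (hq : Ext q τ) (h10 : y 10 = τ) (big : KEq.Big B τ (y 5)) {M₁ : Subgroup X}
    (Bs : Base (q (y 5)) M₁) : ∀ m ∈ M₁, ∃ k ∈ KK y, q k = m := by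
  have hle : ∀ m : B, m * y 5 = y 5 * m → m ∈ M₁.comap q := by
    refine big.ind _ ?_
    intro m1 m2 h1 h2 hn1 hn2
    rw [mem_comap, map_mul]
    exact Bs.M_index _ _ (by rw [← map_mul, h1, map_mul]) (by rw [← map_mul, h2, map_mul]) hn1 hn2
  obtain ⟨g, hg, hgM⟩ := Bs.ex
  obtain ⟨b, rfl⟩ := hq.surj g
  intro m hm
  obtain ⟨c, rfl⟩ := hq.surj m
  refine ⟨c, ?_, rfl⟩
  rw [mem_KK' hq h10]
  refine (conj_five_or hq (Bs.M_comm _ hm)).resolve_right ?_
  intro hc
  have hb := (conj_five_or hq hg).resolve_left (fun e => hgM (hle b (mul_inv_eq_iff_eq_mul.1 e)))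
  apply hgM
  have h1 : (b * c) * y 5 * (b * c)⁻¹ = y 5 := by
    calc (b * c) * y 5 * (b * c)⁻¹ = b * (c * y 5 * c⁻¹) * b⁻¹ := by group
      _ = b * y 5 * (τ * b⁻¹) := by rw [hc]; group
      _ = (b * y 5 * b⁻¹) * τ := by rw [← hq.comm]; group
      _ = y 5 := by rw [hb, mul_assoc, hq.zz, mul_one]
  have h2 : b * c ∈ M₁.comap q := hle _ (mul_inv_eq_iff_eq_mul.1 h1)
  have h3 : q b = q (b * c) * (q c)⁻¹ := by rw [map_mul, mul_inv_cancel_right]
  rw [h3]
  exact M₁.mul_mem h2 (M₁.inv_mem hm)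

/-- **No component** when `v` or `τ v` is conjugate in `Γ` to `z`. -/
theorem no_comp_of_large {Γ : Type*} [Group Γ] [Finite Γ] (hq : Ext q τ) {θ : B →* Γ}
    (hθ : Function.Injective θ) (hr : ∀ x : Γ, x * θ τ = θ τ * x → ∃ b, θ b = x) {Q : Subgroup Γ} {z : Γ}
    (hL : Cfsg.Agent.Co2Type.Quad.Large Q z) {v w : B} (hvw : w = v ∨ w = v * τ) (hw : IsConj z (θ w))
    (K : Subgroup X) : ¬ IsComponentOf K (centralizer ({q v} : Set X)) := by
  obtain ⟨g, hg⟩ := isConj_iff.1 hw
  have hz : g⁻¹ * θ w * g = z := by rw [← hg]; group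
  have hcomm : ∀ x : Γ, x * θ w = θ w * x → (g⁻¹ * x * g) * z = z * (g⁻¹ * x * g) := by
    intro x hx
    rw [← hz]
    calc g⁻¹ * x * g * (g⁻¹ * θ w * g) = g⁻¹ * (x * θ w) * g := by group
      _ = g⁻¹ * (θ w * x) * g := by rw [hx]
      _ = _ := by group
  have hmem : ∀ x : Γ, x ∈ Q.comap (MulAut.conj g⁻¹).toMonoidHom ↔ g⁻¹ * x * g ∈ Q := by
    intro x
    show g⁻¹ * x * g⁻¹⁻¹ ∈ Q ↔ _
    rw [inv_inv]
  refine Abs.no_comp hq hθ hr hvw (Q := Q.comap (MulAut.conj g⁻¹).toMonoidHom) ?_ ?_ ?_ ?_ K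
  · rintro ⟨x, hx⟩
    rw [hmem] at hx
    refine ⟨2, Subtype.ext ?_⟩
    show x ^ 2 ^ 2 = 1
    have h1 : (g⁻¹ * x * g) ^ 4 = 1 := by
      rcases hL.sq _ hx with h2 | h2
      · rw [show (4 : ℕ) = 2 * 2 by norm_num, pow_mul, pow_two (g⁻¹ * x * g), h2, one_pow]
      · rw [show (4 : ℕ) = 2 * 2 by norm_num, pow_mul, pow_two (g⁻¹ * x * g), h2, pow_two, hL.z_sq]
    have h2 : (g⁻¹ * x * g) ^ 4 = g⁻¹ * x ^ 4 * g := by
      have := conj_pow (a := g⁻¹) (b := x) (i := 4)
      rwa [inv_inv] at this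
    rw [h2] at h1
    have h3 : x ^ 4 = g * (g⁻¹ * x ^ 4 * g) * g⁻¹ := by group
    rw [show (2 : ℕ) ^ 2 = 4 by norm_num, h3, h1]
    group
  · intro x hx r hr'
    rw [hmem] at hr' ⊢
    have h1 := hL.conj_mem _ (hcomm x hx) _ hr'
    have h2 : g⁻¹ * (x * r * x⁻¹) * g = g⁻¹ * x * g * (g⁻¹ * r * g) * (g⁻¹ * x * g)⁻¹ := by group
    rwa [h2]
  · intro x hx hxr
    rw [hmem]
    refine hL.self _ (hcomm x hx) ?_
    intro r hr'
    have h1 := hxr (g * r * g⁻¹) (by
      rw [hmem]
      have : g⁻¹ * (g * r * g⁻¹) * g = r := by group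
      rwa [this])
    calc g⁻¹ * x * g * r = g⁻¹ * (x * (g * r * g⁻¹)) * g := by group
      _ = g⁻¹ * (g * r * g⁻¹ * x) * g := by rw [h1]
      _ = r * (g⁻¹ * x * g) := by group
  · intro r hr'
    rw [hmem] at hr'
    have h1 := hL.comm_z _ hr'
    rw [← hz] at h1
    calc r * θ w = g * (g⁻¹ * r * g * (g⁻¹ * θ w * g)) * g⁻¹ := by group
      _ = g * (g⁻¹ * θ w * g * (g⁻¹ * r * g)) * g⁻¹ := by rw [h1]
      _ = θ w * r := by group

/-- **Involutions of the image of `C_B(y 5)` lift to involutions.** -/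
theorem lift_sq {F : Type*} [Field F] [Fintype F] {hF : Fintype.card F = 2 ^ 2}
    (hR : Cfsg.Agent.BabyU.RootCfg.RootFacts hF R) (hX : Cfsg.Agent.BabyU.Key.Extra hF R)
    (Rt : Cfsg.Agent.BabyU.Lab.Roots E R) (hq : Ext q τ) (h10 : y 10 = τ) (D : KD h R π)
    {k : B} (hk : k ∈ KK y) (hu : q k * q k = 1) : k * k = 1 := by
  have H4 : LiftRoot.Four π h.f2 h.f1 :=
    { surj := D.surj
      ker := D.ker
      aa := h.f2_sq
      bb := h.f1_sq
      ac := h.f2_comm
      bc := h.f1_comm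
      ne := fun e => D.ne (congrArg Subtype.val e)
      a1 := fun e => D.ne2 (congrArg Subtype.val e)
      b1 := fun e => D.ne1 (congrArg Subtype.val e) }
  have h1 : π ⟨k, hk⟩ * π ⟨k, hk⟩ = 1 := by
    rw [← map_mul, D.ker]
    rw [← map_mul] at hu
    rcases (hq.ker _).1 hu with h2 | h2
    · exact Or.inl (Subtype.ext h2)
    · right; left
      exact Subtype.ext (h2.trans h10.symm)
  have h2 := LiftRoot.sq_of_sq hR hX Rt H4 (m₀ := h.nd 0) (D.node 0)
    (Subtype.ext (h.sq _ (nl_lt 0) (nl_ne 0))) h1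
  exact congrArg Subtype.val h2

end main

section final

universe v

variable {B X : Type*} {E : Type v} [Group B] [Group X] [Group E] [Finite B] [Finite X] [Finite E]
  {q : B →* X} {τ : B} {R : Set E}
variable {y : ℕ → B} {h : Pre y} {π : KK y →* E} {f₁ f₂ f₃ f₄ : B}

/-- **The condition at every involution.** -/
theorem at_all [IsSimpleGroup E] {Γ : Type*} [Group Γ] [Finite Γ] (hq : Ext q τ) (h10 : y 10 = τ) (D : KD h R π)
    (Fc : FusionType.Facts τ f₁ f₂ f₃ f₄) {θ : B →* Γ} {z : Γ}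
    (hθ : Function.Injective θ) (hr : ∀ x : Γ, x * θ τ = θ τ * x → ∃ b, θ b = x)
    (hcz : IsConj z (θ (τ * (f₁ * f₂)))) (hcd : IsConj z (θ (f₁ * f₂ * f₃)))
    {Q : Subgroup Γ} (hL : Cfsg.Agent.Co2Type.Quad.Large Q z)
    (hc5 : IsConj f₁ (y 5)) (big : KEq.Big B τ (y 5))
    {F : Type*} [Field F] [Fintype F] {hF : Fintype.card F = 2 ^ 2}
    (hR : Cfsg.Agent.BabyU.RootCfg.RootFacts hF R) (hX : Cfsg.Agent.BabyU.Key.Extra hF R)
    (Rt : Cfsg.Agent.BabyU.Lab.Roots E R) (hna : ∃ a b : E, a * b ≠ b * a) (hEC : IsCpSimple 2 E)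
    (hcard : Nat.card E = 76532479683774853939200)
    (hE : ∀ v : E, orderOf v = 2 → IsOfCharacteristicTwo ↥(centralizer ({v} : Set E)))
    (hS : CpAut.AllKnown.{v}) (hTab : CpAut.TwoAbs.Table.{v})
    {M₁ : Subgroup X} (Bs : Base (q (y 5)) M₁)
    (bal : ∀ u : X, orderOf u = 2 → centralizerPPrimeCore 2 u = ⊥) (u : X) (hu : orderOf u = 2) : At X u := by
  have huu : u * u = 1 := by rw [← pow_two, ← hu, pow_orderOf_eq_one]
  have hu1 : u ≠ 1 := by
    rintro rfl
    rw [orderOf_one] at hu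
    omega
  obtain ⟨σ, hσ⟩ := exists_sigma hq h10 D
  have H := data hq h10 D big hσ
  have ht2 : orderOf (q (y 5)) = 2 := orderOf_eq_prime (by rw [pow_two, H.t_sq]) H.t_ne
  have hAt : At X (q (y 5)) := by
    refine ⟨bal _ ht2, fun K hK => ?_⟩
    refine TwoA.good H hna hEC hcard ?_ (by norm_num) (by norm_num) (by norm_num) (by norm_num) hK
    refine fm9_of_primes [(2, 37), (3, 9), (5, 2), (7, 2), (11, 1), (13, 1), (17, 1), (19, 1)] ?_ ?_ ?_ ?_
    · intro x hx
      simp only [List.mem_cons, List.not_mem_nil, or_false] at hx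
      rcases hx with rfl | rfl | rfl | rfl | rfl | rfl | rfl | rfl <;> norm_num
    · norm_num
    · intro x hx
      simp only [List.mem_cons, List.not_mem_nil, or_false] at hx
      rcases hx with rfl | rfl | rfl | rfl | rfl | rfl | rfl | rfl <;> norm_num
    · norm_num
  rcases Bs.classes u huu hu1 with ⟨g, hg⟩ | ⟨d, hd, hc, hud⟩
  · -- case I
    obtain ⟨k, hk, hqk⟩ := M_le hq h10 big Bs _ hg
    have hgu : u = g * q k * g⁻¹ := by rw [hqk]; group
    rw [hgu]
    refine At.conj ?_ g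
    have hkk : k * k = 1 := by
      refine lift_sq hR hX Rt hq h10 D hk ?_
      rw [hqk]
      calc g⁻¹ * u * g * (g⁻¹ * u * g) = g⁻¹ * (u * u) * g := by group
        _ = 1 := by rw [huu]; group
    have hqk1 : q k ≠ 1 := by
      intro e
      apply hu1
      rw [hgu, e]; group
    have hk1 : k ≠ 1 := fun e => hqk1 (by rw [e, map_one])
    have hkτ : k ≠ τ := fun e => hqk1 (by rw [e, hq.mapz])
    have hk2 : orderOf (q k) = 2 := by
      refine orderOf_eq_prime ?_ hqk1
      rw [← map_pow, pow_two, hkk, map_one]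
    rcases Fc.classes k hkk hk1 hkτ with h1 | h1 | h1 | h1
    · obtain ⟨c, hc⟩ := isConj_iff.1 (q.map_isConj (hc5.symm.trans h1))
      rw [← hc]
      exact hAt.conj c
    · refine ⟨bal _ hk2, fun K hK => absurd hK ?_⟩
      refine no_comp_of_large hq hθ hr hL (v := k) (w := k * τ) (Or.inr rfl) ?_ K
      refine hcz.trans (θ.map_isConj ?_)
      rw [hq.comm]
      exact FusionType.conj_mul_t Fc.cen h1
    · refine ⟨bal _ hk2, fun K hK => absurd hK ?_⟩
      exact no_comp_of_large hq hθ hr hL (v := k) (w := k) (Or.inl rfl) (hcz.trans (θ.map_isConj h1)) K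
    · refine ⟨bal _ hk2, fun K hK => absurd hK ?_⟩
      exact no_comp_of_large hq hθ hr hL (v := k) (w := k) (Or.inl rfl) (hcd.trans (θ.map_isConj h1)) K
  · -- case II
    refine ⟨bal u hu, fun K hK => ?_⟩
    refine CaseTwo.good hS hTab hE (Bs.trans H.t_sq H.t_ne) ?_ huu hu1 hd hc hud (bal u hu) hK
    intro d hd
    obtain ⟨g, rfl⟩ := isConj_iff.1 hd
    have h1 := H.comap (MulAut.conj g⁻¹)
    have h2 : (MulAut.conj g⁻¹).symm (q (y 5)) = g * q (y 5) * g⁻¹ := by
      rw [MulEquiv.symm_apply_eq, MulAut.conj_apply]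
      group
    rw [h2] at h1
    exact ⟨_, _, h1⟩

end final

end Cfsg.Agent.BabyComp.Main

end
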