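import Cfsg.Agent.BabyComp.Main
import Cfsg.Agent.MonsterN.NodesLit
import Cfsg.Agent.SevenCases.NoSpec
import Cfsg.Agent.S0813
import Cfsg.Agent.BabyU.TriLifts
import Cfsg.Agent.TwoESix.KeyExtra
import Cfsg.Agent.TwoESix.KeyQuad
import Cfsg.Agent.TwoESix.RootsInst
import Cfsg.Agent.TwoESix.LeviG
import Cfsg.Agent.TwoESix.GoodInst
import Cfsg.Agent.TwoESix.ExtTwisted
import Cfsg.Agent.MonsterN.EInst
import Cfsg.Agent.KFacts.RgdLieCharP
import Cfsg.Agent.BM.HBFinal
import Cfsg.Prelude.Def_EvenType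
import Cfsg.Agent.BabyComp.BaseB
import Cfsg.Agent.MonsterN.FusInst
import Cfsg.Agent.MonsterN.BigAConf
import Cfsg.Agent.MonsterN.LitInst
import Cfsg.Agent.MonsterU.ModelChart
import Cfsg.Agent.S1704

-- merged: Cfsg.Agent.BabyComp.NodesB
section

/-!
# The nodes of `2.B` with the projection of `C_B(y 5)` onto `²E₆(2)`, linked to the presented group (helper30)

The proof is that of `MonsterN.NodesLit.nodes`.
-/

set_option autoImplicit false

open Subgroup

namespace Cfsg.Agent.BabyComp.NodesB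

open Cfsg Cfsg.Agent.Bimonster Cfsg.Agent.TwoESix.Cox10 Cfsg.Agent.TwoESix.Lift Cfsg.Agent.TwoESix.Cover
open Cfsg.Agent.BabyU.OutFree Cfsg.Agent.R01.Lifts Cfsg.Agent.MonsterN Cfsg.Agent.MonsterN.Lit
open Cfsg.Agent.MonsterN.CardK

variable {B X E : Type*} [Group B] [Group X] [Group E] {τ f₁ f₂ f₃ f₄ : B} {θ : B →* X} {z : X} {R : Set E}

/-- **The nodes of `2.B`.** -/
theorem nodes [Finite B] [Finite HB] [IsSimpleGroup E] {e0 : Fin 10 → E} (he0 : Good e0)
    (hgen : closure (Set.range e0) = ⊤) (hcard : Nat.card HB ≤ Nat.card E)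
    (hE : Nat.card E = 76532479683774853939200) (hR : ∀ i, e0 i ∈ R)
    (h2 : Nat.card (center B) = 2) (perf : commutator B = ⊤)
    (quot : Nonempty ((B ⧸ center B) ≃* Spor.BabyMonster)) (Fc : FusionType.Facts τ f₁ f₂ f₃ f₄)
    (M : Emb θ z τ f₁ f₂ f₃) :
    ∃ (q : B →* Spor.BabyMonster) (y : ℕ → B) (h : Pre y) (π : KK y →* E), Ext q τ ∧ y 10 = τ ∧ KD h R π ∧
      IsConj f₁ (y 5) ∧ IsConj (q (y 5)) (PresentedGroup.of Spor.BabyMonster.Gen.t1 : Spor.BabyMonster) := by
  obtain ⟨q, hq⟩ := NodesLit.exists_ext h2 quot Fc.cen Fc.t_ne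
  obtain ⟨y, hy, h10, hπ, hcl⟩ := LiftB.exists_pre_of_perfect fi_facts hq perf
  have hy4 : q (y 4) = PresentedGroup.of Spor.BabyMonster.Gen.t1 := hπ .t1
  have h45 := isConj_four hy
  -- the order of the centraliser of `q (y 5)`
  have hq45 : IsConj (q (y 5)) (PresentedGroup.of Spor.BabyMonster.Gen.t1 : Spor.BabyMonster) := by
    rw [← hy4]
    exact (q.map_isConj h45).symm
  have hfB : Finite Spor.BabyMonster := Finite.of_surjective q hq.surj
  have h19Q : 19 ∣ Nat.card (centralizer ({q (y 5)} : Set Spor.BabyMonster)) := by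
    rw [card_centralizer_isConj hq45]
    have : Nat.card (centralizer ({PresentedGroup.of Spor.BabyMonster.Gen.t1} : Set Spor.BabyMonster)) =
      306129918735099415756800 := BM.KHAll.card_cent .t1
    rw [this]; norm_num
  have h19 := NodesLit.dvd_centralizer hq (x := y 5) (by norm_num : Nat.Prime 19) (by norm_num) h19Q
  have hq5 : q (y 5) ≠ 1 := by
    intro e
    have h1 := card_centralizer_isConj hq45
    rw [e] at h1
    have h2 : Nat.card (centralizer ({PresentedGroup.of Spor.BabyMonster.Gen.t1} : Set Spor.BabyMonster)) =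
      306129918735099415756800 := BM.KHAll.card_cent .t1
    have h3 : centralizer ({1} : Set Spor.BabyMonster) = ⊤ := by
      rw [eq_top_iff]
      intro x _
      rw [mem_centralizer_singleton_iff, mul_one, one_mul]
    rw [h2, h3, card_top, BM.KHAll.card_B] at h1
    norm_num at h1
  have h51 : y 5 ≠ 1 := fun e => hq5 (by rw [e, map_one])
  have h5τ : y 5 ≠ τ := fun e => hq5 (by rw [e]; exact hq.mapz)
  have hf5 : IsConj f₁ (y 5) := conj_of_nineteen Fc M (hy.sq 5 (by norm_num) (by norm_num)) h51 h5τ h19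
  have hc : IsConj (y 5) (y 10 * y 5) := by
    rw [h10]
    exact hf5.symm.trans (Fc.a_t.trans (FusionType.conj_mul_t Fc.cen hf5))
  have hq' := hq
  rw [← h10] at hq'
  obtain ⟨π, D, -⟩ := exists_KD_of_ext he0 hgen hcard hE hR hy hq' hc (t := .t1) (by rw [hy4])
  exact ⟨q, y, hy, π, hq, h10, D, hf5, hq45⟩

end Cfsg.Agent.BabyComp.NodesB

end

-- merged: Cfsg.Agent.BabyComp.NoSpec
section

/-!
# No component of type `L₂(q)`, `q ∈ FM9`, or `L₃(4)` in the centralizers of involutions of the Baby Monster (helper30)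
-/

set_option autoImplicit false
set_option linter.unusedSectionVars false

namespace Cfsg.Agent.BabyComp.NoSpec

open Subgroup Cfsg Cfsg.Agent.CTwoTab Cfsg.Agent.CpAut Cfsg.Agent.CpAut.TwoAbs Cfsg.Agent.SevenCases

universe u v

/-- A normal subgroup `L` with trivial centralizer: `|X| ≤ |Aut(L)|`. -/
theorem card_le_aut {X : Type*} [Group X] [Finite X] (L : Subgroup X) (hL : L.Normal)
    (hC : centralizer (L : Set X) = ⊥) : Nat.card X ≤ Nat.card (MulAut ↥L) := by
  have hfin : Finite (MulAut ↥L) := inferInstance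
  refine Nat.card_le_card_of_injective (MulAut.conjNormal : X →* MulAut ↥L) ?_
  rw [injective_iff_map_eq_one]
  intro x hx
  have h1 : x ∈ centralizer (L : Set X) := by
    rw [mem_centralizer_iff]
    intro l hl
    have h2 := congrArg Subtype.val (DFunLike.congr_fun hx ⟨l, hl⟩)
    rw [MulAut.conjNormal_apply] at h2
    exact (mul_inv_eq_iff_eq_mul.1 h2).symm
  rwa [hC, mem_bot] at h1

/-- `|PGL_n(F)| ≤ |F| ^ (n ^ 2)` -/
theorem card_pgl_le (F : Type) [Field F] [Fintype F] (n : ℕ) :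
    Nat.card (Matrix.ProjGenLinGroup (Fin n) F) ≤ Fintype.card F ^ (n * n) := by
  classical
  have h1 : Nat.card (Matrix.ProjGenLinGroup (Fin n) F) ≤ Nat.card (Matrix.GeneralLinearGroup (Fin n) F) :=
    Nat.card_le_card_of_surjective _ (QuotientGroup.mk'_surjective (Subgroup.center (Matrix.GeneralLinearGroup (Fin n) F)))
  have h2 : Nat.card (Matrix.GeneralLinearGroup (Fin n) F) ≤ Nat.card (Matrix (Fin n) (Fin n) F) :=
    Nat.card_le_card_of_injective (fun g : Matrix.GeneralLinearGroup (Fin n) F => (g : Matrix (Fin n) (Fin n) F))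
      Units.val_injective
  refine (h1.trans h2).trans (le_of_eq ?_)
  change Nat.card (Fin n → Fin n → F) = _
  rw [Nat.card_fun, Nat.card_fun, Nat.card_fin, ← pow_mul, Nat.card_eq_fintype_card]

/-- `|Aut(PSL_n(F))| ≤ 4 |F| ^ (n ^ 2)`, `|F|` a prime or the square of a prime -/
theorem card_aut_psl_le (F : Type) [Field F] [Fintype F] {p f : ℕ} (hp : p.Prime) (hf : 1 ≤ f) (hf2 : f ≤ 2)
    (hF : Fintype.card F = p ^ f) (n : ℕ) (hn : 2 ≤ n) (h2 : n = 2 → 4 ≤ p ^ f) :
    Nat.card (MulAut (Matrix.ProjectiveSpecialLinearGroup (Fin n) F)) ≤ 4 * Fintype.card F ^ (n * n) := by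
  have := Fact.mk hp
  rw [S0813.result p f hf hF n hn h2]
  refine Nat.mul_le_mul ?_ (card_pgl_le F n)
  split_ifs
  · omega
  · omega

/-- `|Aut(L)| ≤ |L|!` -/
theorem card_aut_le_factorial (L : Type*) [Group L] [Finite L] : Nat.card (MulAut L) ≤ (Nat.card L).factorial := by
  classical
  have := Fintype.ofFinite L
  have h1 : Nat.card (MulAut L) ≤ Nat.card (Equiv.Perm L) :=
    Nat.card_le_card_of_injective (fun a : MulAut L => (a.toEquiv : Equiv.Perm L)) (fun a b hab => by
      ext x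
      exact DFunLike.congr_fun hab x)
  rw [Nat.card_eq_fintype_card (α := Equiv.Perm L), Fintype.card_perm, ← Nat.card_eq_fintype_card] at h1
  exact h1

theorem card_aut_congr {L S : Type*} [Group L] [Group S] (e : L ≃* S) : Nat.card (MulAut L) = Nat.card (MulAut S) :=
  Nat.card_congr (MulAut.congr e).toEquiv

/-- A simple group `L₂(q)`, `q ∈ FM9`, whose order divides `|²E₆(2)|`, has at most `10 ^ 9` automorphisms. -/
theorem card_aut_psl_two {L : Type*} [Group L] [Finite L] (hd : Nat.card L ∣ 76532479683774853939200)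
    (F : Type) [Field F] [Fintype F] (hF : IsFM9 (Fintype.card F))
    (e : L ≃* Matrix.ProjectiveSpecialLinearGroup (Fin 2) F) : Nat.card (MulAut L) ≤ 1000000000 := by
  have hq : Fintype.card F * (Fintype.card F ^ 2 - 1) = 2 * Nat.card L := by
    rw [Nat.card_congr e.toEquiv]
    exact card_psl_two (isFM9_odd hF)
  have hq2 : Fintype.card F * (Fintype.card F ^ 2 - 1) ∣ 2 * 76532479683774853939200 := by
    rw [hq]
    exact Nat.mul_dvd_mul_left 2 hd
  have hodd := isFM9_odd hF
  rcases hF with ⟨hp, -⟩ | h9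
  · -- a prime
    have h1 : Fintype.card F ∣
        (([(2, 37), (3, 9), (5, 2), (7, 2), (11, 1), (13, 1), (17, 1), (19, 1)] : List (ℕ × ℕ)).map
          fun x => x.1 ^ x.2).prod := by
      have h2 : (([(2, 37), (3, 9), (5, 2), (7, 2), (11, 1), (13, 1), (17, 1), (19, 1)] : List (ℕ × ℕ)).map
          fun x => x.1 ^ x.2).prod = 2 * 76532479683774853939200 := by norm_num
      rw [h2]
      exact (Dvd.intro _ rfl).trans hq2
    have h2 := prime_mem_of_dvd_prod (L := [(2, 37), (3, 9), (5, 2), (7, 2), (11, 1), (13, 1), (17, 1), (19, 1)])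
      (by
        intro x hx
        simp only [List.mem_cons, List.not_mem_nil, or_false] at hx
        rcases hx with rfl | rfl | rfl | rfl | rfl | rfl | rfl | rfl <;> norm_num) hp h1
    simp only [List.map_cons, List.map_nil, List.mem_cons, List.not_mem_nil, or_false] at h2
    by_cases h4 : 4 ≤ Fintype.card F
    · have h5 : Fintype.card F ≤ 19 := by omega
      rw [card_aut_congr e]
      refine (card_aut_psl_le F hp le_rfl one_le_two (pow_one _).symm 2 le_rfl
        (fun _ => by rw [pow_one]; exact h4)).trans ?_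
      calc 4 * Fintype.card F ^ (2 * 2) ≤ 4 * 19 ^ (2 * 2) := Nat.mul_le_mul_left 4 (Nat.pow_le_pow_left h5 _)
        _ ≤ 1000000000 := by norm_num
    · have h5 : Fintype.card F = 3 := by
        rcases h2 with h2 | h2 | h2 | h2 | h2 | h2 | h2 | h2
        · rw [h2] at hodd
          exact absurd hodd (by decide)
        · exact h2
        all_goals omega
      have h6 : Nat.card L = 12 := by
        rw [h5] at hq
        omega
      refine (card_aut_le_factorial L).trans ?_
      rw [h6]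
      norm_num [Nat.factorial]
  · rw [card_aut_congr e]
    refine (card_aut_psl_le F (p := 3) (f := 2) Nat.prime_three one_le_two le_rfl (by rw [h9]; norm_num) 2 le_rfl
      (fun _ => by norm_num)).trans ?_
    rw [h9]
    norm_num

/-- `|Aut(L₃(4))| ≤ 4 ^ 10` -/
theorem card_aut_psl_three {L : Type*} [Group L] [Finite L] (F : Type) [Field F] [Fintype F]
    (hF : Fintype.card F = 4) (e : L ≃* Matrix.ProjectiveSpecialLinearGroup (Fin 3) F) :
    Nat.card (MulAut L) ≤ 1000000000 := by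
  rw [card_aut_congr e]
  refine (card_aut_psl_le F (p := 2) (f := 2) Nat.prime_two one_le_two le_rfl (by rw [hF]; norm_num) 3 (by norm_num)
    (fun h => absurd h (by norm_num))).trans ?_
  rw [hF]
  norm_num

/-- The size of a class is at most the index of the centralizer. -/
theorem card_class_le {X : Type*} [Group X] [Finite X] (t : X) :
    Nat.card ↥{s : X | IsConj t s} ≤ (centralizer ({t} : Set X)).index := by
  let f : X ⧸ centralizer ({t} : Set X) → ↥{s : X | IsConj t s} :=
    Quotient.lift (fun g : X => (⟨g * t * g⁻¹, isConj_iff.2 ⟨g, rfl⟩⟩ : ↥{s : X | IsConj t s})) (by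
      intro a b hab
      have h2 : a⁻¹ * b ∈ centralizer ({t} : Set X) := QuotientGroup.leftRel_apply.1 hab
      rw [mem_centralizer_singleton_iff] at h2
      apply Subtype.ext
      show a * t * a⁻¹ = b * t * b⁻¹
      symm
      calc b * t * b⁻¹ = a * (a⁻¹ * b * t) * b⁻¹ := by group
        _ = a * (t * (a⁻¹ * b)) * b⁻¹ := by rw [h2]
        _ = a * t * a⁻¹ := by group)
  refine Nat.card_le_card_of_surjective f ?_
  rintro ⟨s, hs⟩
  obtain ⟨g, rfl⟩ := isConj_iff.1 hs
  exact ⟨QuotientGroup.mk g, rfl⟩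

/-! ### The order of the group of fixed points -/

section fix

variable {X : Type u} [Group X] [Finite X] {E : Type v} [Group E] [Finite E]

/-- `|E| ≤ |T| |C_E(x)|` -/
theorem card_le_fix {T : Set X} (hconj : ∀ s ∈ T, ∀ g : X, g * s * g⁻¹ ∈ T) {N : ℕ} (hN : Nat.card ↥T ≤ N)
    {d : X} {X₀ : Subgroup X} {σ : ↥X₀ →* E} (H : Sec.Data d σ) {u : X} (hc : u * d = d * u) (hud : u * d ∈ T)
    {x : MulAut E} (hx : ∀ m : ↥X₀, x (σ m) = σ (Sec.cj H hc m)) :
    Nat.card E ≤ N * Nat.card ↥(fixedSubgroup x) := by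
  classical
  have hdd := H.t_sq
  -- the elements of `X₀` commuting with `u`
  let D : Subgroup ↥X₀ := (centralizer ({u} : Set X)).comap X₀.subtype
  have hD : ∀ m : ↥X₀, m ∈ D ↔ (m : X) * u = u * m := fun m => by
    show (m : X) ∈ centralizer ({u} : Set X) ↔ _
    rw [mem_centralizer_singleton_iff]
  -- the orbit of `u d`
  have h1 : Nat.card (↥X₀ ⧸ D) ≤ N := by
    refine le_trans ?_ hN
    have hf : ∀ m : ↥X₀, (m : X) * (u * d) * (m : X)⁻¹ ∈ T := fun m => hconj _ hud m
    have hcd : ∀ m : ↥X₀, (m : X) * (u * d) * (m : X)⁻¹ = (m : X) * u * (m : X)⁻¹ * d := by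
      intro m
      have := H.comm _ (X₀.inv_mem m.2)
      calc (m : X) * (u * d) * (m : X)⁻¹ = (m : X) * u * (d * (m : X)⁻¹) := by group
        _ = _ := by rw [← this]; group
    let f : ↥X₀ ⧸ D → ↥T := Quotient.lift (fun m : ↥X₀ => (⟨_, hf m⟩ : ↥T)) (by
      intro a b hab
      have h2 : a⁻¹ * b ∈ D := QuotientGroup.leftRel_apply.1 hab
      apply Subtype.ext
      show (a : X) * (u * d) * (a : X)⁻¹ = (b : X) * (u * d) * (b : X)⁻¹
      rw [hcd, hcd]
      have h3 : (a : X)⁻¹ * b * u = u * ((a : X)⁻¹ * b) := (hD _).1 h2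
      have h4 : (b : X) * u * (b : X)⁻¹ = (a : X) * u * (a : X)⁻¹ := by
        calc (b : X) * u * (b : X)⁻¹ = (a : X) * ((a : X)⁻¹ * b * u) * (b : X)⁻¹ := by group
          _ = (a : X) * (u * ((a : X)⁻¹ * b)) * (b : X)⁻¹ := by rw [h3]
          _ = _ := by group
      rw [h4])
    refine Nat.card_le_card_of_injective f ?_
    intro a b
    obtain ⟨a, rfl⟩ := QuotientGroup.mk_surjective a
    obtain ⟨b, rfl⟩ := QuotientGroup.mk_surjective b
    intro hab
    have h2 : (a : X) * (u * d) * (a : X)⁻¹ = (b : X) * (u * d) * (b : X)⁻¹ := congrArg Subtype.val hab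
    rw [hcd, hcd] at h2
    have h3 := mul_right_cancel h2
    rw [QuotientGroup.eq, hD]
    show (a : X)⁻¹ * b * u = u * ((a : X)⁻¹ * b)
    calc (a : X)⁻¹ * b * u = (a : X)⁻¹ * (b * u * (b : X)⁻¹) * b := by group
      _ = (a : X)⁻¹ * (a * u * (a : X)⁻¹) * b := by rw [h3]
      _ = u * ((a : X)⁻¹ * b) := by group
  have h2 : Nat.card ↥X₀ = Nat.card (↥X₀ ⧸ D) * Nat.card ↥D := D.card_eq_card_quotient_mul_card_subgroup
  -- `σ` maps `D` into the fixed points
  have hfix : ∀ m : ↥D, σ m ∈ fixedSubgroup x := by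
    intro m
    show x (σ m) = σ m
    rw [hx]
    congr 1
    apply Subtype.ext
    rw [Sec.cj_coe, ← (hD _).1 m.2, mul_inv_cancel_right]
  have hk2 : Nat.card ↥σ.ker = 2 := by
    rw [Nat.card_eq_two_iff]
    refine ⟨1, ⟨⟨d, H.mem⟩, (H.ker _).2 (Or.inr rfl)⟩, ?_, ?_⟩
    · intro h
      exact H.t_ne (congrArg (fun z : ↥σ.ker => ((z : ↥X₀) : X)) h).symm
    · rw [Set.eq_univ_iff_forall]
      rintro ⟨m, hm⟩
      rcases (H.ker m).1 hm with h | h
      · left
        exact Subtype.ext (Subtype.ext h)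
      · right
        exact Subtype.ext (Subtype.ext h)
  have h3 : Nat.card ↥D ≤ 2 * Nat.card ↥(fixedSubgroup x) := by
    let g : ↥D →* ↥(fixedSubgroup x) :=
      { toFun := fun m => ⟨σ m, hfix m⟩
        map_one' := Subtype.ext (map_one σ)
        map_mul' := fun a b => Subtype.ext (map_mul σ (a : ↥X₀) b) }
    have hg : Nat.card ↥g.ker ≤ 2 := by
      rw [← hk2]
      refine Nat.card_le_card_of_injective (fun z : ↥g.ker => (⟨(z : ↥D), by
        have := z.2
        rw [MonoidHom.mem_ker] at this ⊢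
        exact congrArg Subtype.val this⟩ : ↥σ.ker)) ?_
      intro a b hab
      have h := congrArg (fun z : ↥σ.ker => (z : ↥X₀)) hab
      exact Subtype.ext (Subtype.ext h)
    rw [← g.ker.card_mul_index, Subgroup.index_ker]
    exact Nat.mul_le_mul hg (Nat.card_le_card_of_injective _ g.range.subtype_injective)
  have h4 : Nat.card ↥X₀ = 2 * Nat.card E := by rw [card_of_ext H.surj, hk2]
  have h5 : Nat.card ↥X₀ ≤ N * (2 * Nat.card ↥(fixedSubgroup x)) := by
    rw [h2]
    exact Nat.mul_le_mul h1 h3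
  rw [h4] at h5
  have h6 : 2 * Nat.card E ≤ 2 * (N * Nat.card ↥(fixedSubgroup x)) := by
    calc 2 * Nat.card E ≤ N * (2 * Nat.card ↥(fixedSubgroup x)) := h5
      _ = 2 * (N * Nat.card ↥(fixedSubgroup x)) := by ring
  omega

/-- **No component of type `L₂(q)` or `L₃(4)` in case II.** -/
theorem case_two
    (hE : ∀ v : E, orderOf v = 2 → IsOfCharacteristicTwo ↥(centralizer ({v} : Set E)))
    (hcard : Nat.card E = 76532479683774853939200)
    {T : Set X} (HT : Pair.Trans T) (hN : Nat.card ↥T ≤ 13571955000)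
    (hsec : ∀ d ∈ T, ∃ (X₀ : Subgroup X) (σ : ↥X₀ →* E), Sec.Data d σ)
    {u d : X} (hu : u * u = 1) (hu1 : u ≠ 1) (hd : d ∈ T) (hc : u * d = d * u) (hud : u * d ∈ T)
    (hb : centralizerPPrimeCore 2 u = ⊥) {K : Subgroup X}
    (hK : IsComponentOf K (centralizer ({u} : Set X))) : NoSpec ↥K := by
  obtain ⟨X₀, σ, H, x, L, hx2, hx, hs, hna, hLn, hCL, hct, ⟨e⟩⟩ :=
    CaseTwo.main hE HT hsec hu hu1 hd hc hud hb hK
  have h1 := card_le_fix HT.conj hN H hc hud hx
  rw [hcard] at h1
  have h2 := card_le_aut L hLn hCL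
  -- the bound
  have h3 : 5000000000000 < Nat.card (MulAut ↥L) := by
    have : 76532479683774853939200 ≤ 13571955000 * Nat.card (MulAut ↥L) := h1.trans (Nat.mul_le_mul_left _ h2)
    omega
  refine NoSpec.congr e.symm ⟨?_, ?_⟩
  · rintro ⟨F, _, _, hF, ⟨f⟩⟩
    have h4 : Nat.card ↥L ∣ 76532479683774853939200 := by
      rw [← hcard]
      exact (card_subgroup_dvd_card L).trans (card_subgroup_dvd_card (fixedSubgroup x))
    have h5 := card_aut_psl_two h4 F hF f
    omega
  · rintro ⟨F, _, _, hF, ⟨f⟩⟩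
    have hz := CTwoTab.center_eq_bot_of_simple hna
    have h5 := card_aut_psl_three F hF
      (((QuotientGroup.quotientMulEquivOfEq hz).trans QuotientGroup.quotientBot).symm.trans f)
    omega

end fix

/-! ### All the involutions -/

section all

open Cfsg.Agent.R01.Lifts Cfsg.Agent.MonsterN Cfsg.Agent.MonsterN.Lit Cfsg.Agent.BabyComp.Main

variable {B : Type*} {X : Type u} {E : Type v} [Group B] [Group X] [Group E] [Finite B] [Finite X] [Finite E]
  {q : B →* X} {τ : B} {R : Set E}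
variable {y : ℕ → B} {h : Pre y} {π : KK y →* E} {f₁ f₂ f₃ f₄ : B}

/-- A property of the components follows from the class of `t` and case II. -/
theorem comp_all [IsSimpleGroup E] {Γ : Type*} [Group Γ] [Finite Γ] (hq : Ext q τ) (h10 : y 10 = τ) (D : KD h R π)
    (Fc : FusionType.Facts τ f₁ f₂ f₃ f₄) {θ : B →* Γ} {z : Γ}
    (hθ : Function.Injective θ) (hr : ∀ x : Γ, x * θ τ = θ τ * x → ∃ b, θ b = x)
    (hcz : IsConj z (θ (τ * (f₁ * f₂)))) (hcd : IsConj z (θ (f₁ * f₂ * f₃)))
    {Q : Subgroup Γ} (hL : Cfsg.Agent.Co2Type.Quad.Large Q z)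
    (hc5 : IsConj f₁ (y 5)) (big : KEq.Big B τ (y 5))
    {F : Type*} [Field F] [Fintype F] {hF : Fintype.card F = 2 ^ 2}
    (hR : Cfsg.Agent.BabyU.RootCfg.RootFacts hF R) (hX : Cfsg.Agent.BabyU.Key.Extra hF R)
    (Rt : Cfsg.Agent.BabyU.Lab.Roots E R) {M₁ : Subgroup X} (Bs : Base (q (y 5)) M₁)
    {Pr : ∀ (K : Type u) [Group K], Prop}
    (hPr : ∀ {K L : Type u} [Group K] [Group L], (K ≃* L) → Pr K → Pr L)
    (hA : ∀ K : Subgroup X, IsComponentOf K (centralizer ({q (y 5)} : Set X)) → Pr ↥K)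
    (hB : ∀ u d : X, u * u = 1 → u ≠ 1 → IsConj (q (y 5)) d → u * d = d * u → IsConj (q (y 5)) (u * d) →
      ∀ K : Subgroup X, IsComponentOf K (centralizer ({u} : Set X)) → Pr ↥K)
    (u : X) (hu : orderOf u = 2) (K : Subgroup X) (hK : IsComponentOf K (centralizer ({u} : Set X))) : Pr ↥K := by
  have huu : u * u = 1 := by rw [← pow_two, ← hu, pow_orderOf_eq_one]
  have hu1 : u ≠ 1 := by
    rintro rfl
    rw [orderOf_one] at hu
    omega
  -- conjugation
  have hconj : ∀ g v : X, (∀ K : Subgroup X, IsComponentOf K (centralizer ({v} : Set X)) → Pr ↥K) →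
      ∀ K : Subgroup X, IsComponentOf K (centralizer ({g * v * g⁻¹} : Set X)) → Pr ↥K := by
    intro g v hv K hK
    have h1 := isComponentOf_map (MulAut.conj g⁻¹) hK
    rw [map_centralizer_singleton] at h1
    have e : (MulAut.conj g⁻¹) (g * v * g⁻¹) = v := by
      rw [MulAut.conj_apply]; group
    rw [e] at h1
    exact hPr (subMap (MulAut.conj g⁻¹) K).symm (hv _ h1)
  rcases Bs.classes u huu hu1 with ⟨g, hg⟩ | ⟨d, hd, hc, hud⟩
  · -- case I
    obtain ⟨k, hk, hqk⟩ := M_le hq h10 big Bs _ hg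
    have hgu : u = g * q k * g⁻¹ := by rw [hqk]; group
    rw [hgu] at hK
    refine hconj g (q k) ?_ K hK
    clear hK K
    intro K hK
    have hkk : k * k = 1 := by
      refine lift_sq hR hX Rt hq h10 D hk ?_
      rw [hqk]
      calc g⁻¹ * u * g * (g⁻¹ * u * g) = g⁻¹ * (u * u) * g := by group
        _ = 1 := by rw [huu]; group
    have hqk1 : q k ≠ 1 := by
      intro e
      apply hu1
      rw [hgu, e]; group
    have hk1 : k ≠ 1 := fun e => hqk1 (by rw [e, map_one])
    have hkτ : k ≠ τ := fun e => hqk1 (by rw [e, hq.mapz])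
    rcases Fc.classes k hkk hk1 hkτ with h1 | h1 | h1 | h1
    · obtain ⟨c, hc⟩ := isConj_iff.1 (q.map_isConj (hc5.symm.trans h1))
      rw [← hc] at hK
      exact hconj c _ hA K hK
    · refine absurd hK ?_
      refine no_comp_of_large hq hθ hr hL (v := k) (w := k * τ) (Or.inr rfl) ?_ K
      refine hcz.trans (θ.map_isConj ?_)
      rw [hq.comm]
      exact FusionType.conj_mul_t Fc.cen h1
    · exact absurd hK (no_comp_of_large hq hθ hr hL (v := k) (w := k) (Or.inl rfl) (hcz.trans (θ.map_isConj h1)) K)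
    · exact absurd hK (no_comp_of_large hq hθ hr hL (v := k) (w := k) (Or.inl rfl) (hcd.trans (θ.map_isConj h1)) K)
  · exact hB u d huu hu1 hd hc hud K hK

/-- **No component is special.** -/
theorem noSpec_all [IsSimpleGroup E] {Γ : Type*} [Group Γ] [Finite Γ] (hq : Ext q τ) (h10 : y 10 = τ) (D : KD h R π)
    (Fc : FusionType.Facts τ f₁ f₂ f₃ f₄) {θ : B →* Γ} {z : Γ}
    (hθ : Function.Injective θ) (hr : ∀ x : Γ, x * θ τ = θ τ * x → ∃ b, θ b = x)
    (hcz : IsConj z (θ (τ * (f₁ * f₂)))) (hcd : IsConj z (θ (f₁ * f₂ * f₃)))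
    {Q : Subgroup Γ} (hL : Cfsg.Agent.Co2Type.Quad.Large Q z)
    (hc5 : IsConj f₁ (y 5)) (big : KEq.Big B τ (y 5))
    {F : Type*} [Field F] [Fintype F] {hF : Fintype.card F = 2 ^ 2}
    (hR : Cfsg.Agent.BabyU.RootCfg.RootFacts hF R) (hX : Cfsg.Agent.BabyU.Key.Extra hF R)
    (Rt : Cfsg.Agent.BabyU.Lab.Roots E R) (hna : ∃ a b : E, a * b ≠ b * a)
    (hcard : Nat.card E = 76532479683774853939200)
    (hE : ∀ v : E, orderOf v = 2 → IsOfCharacteristicTwo ↥(centralizer ({v} : Set E)))
    {M₁ : Subgroup X} (Bs : Base (q (y 5)) M₁)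
    (hN : Nat.card ↥{s : X | IsConj (q (y 5)) s} ≤ 13571955000)
    (bal : ∀ u : X, orderOf u = 2 → centralizerPPrimeCore 2 u = ⊥) (u : X) (hu : orderOf u = 2)
    (K : Subgroup X) (hK : IsComponentOf K (centralizer ({u} : Set X))) : NoSpec ↥K := by
  obtain ⟨σ, hσ⟩ := exists_sigma hq h10 D
  have H := data hq h10 D big hσ
  refine comp_all hq h10 D Fc hθ hr hcz hcd hL hc5 big hR hX Rt Bs (Pr := fun K _ => NoSpec K)
    (fun e h => h.congr e) ?_ ?_ u hu K hK
  · intro K hK
    obtain ⟨f, hf, hk, hcen⟩ := TwoA.exists_hom H hK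
    have e := quoCenterEquiv hf (simple_center_eq_bot hna) hcen
    have he : Nat.card (↥K ⧸ center ↥K) = 76532479683774853939200 := by rw [Nat.card_congr e.toEquiv, hcard]
    refine ⟨?_, ?_⟩
    · rintro ⟨F', _, _, hF', ⟨g⟩⟩
      have hd2 : 2 * Nat.card ↥K = Fintype.card F' * (Fintype.card F' ^ 2 - 1) := by
        rw [Nat.card_congr g.toEquiv]
        exact two_mul_card_PSL_two F' (odd_of_fm9 hF')
      -- the kernel has order at most 2
      have hk2 : Nat.card ↥f.ker ≤ 2 := by
        have hinj : Function.Injective (fun k : ↥f.ker => (⟨((k : ↥K) : X), by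
            have := (hk k).1 k.2
            rcases this with h | h
            · rw [h]; exact one_mem _
            · rw [h]; exact mem_zpowers (q (y 5))⟩ : ↥(zpowers (q (y 5))))) := by
          intro a b hab
          have h := congrArg (fun y' : ↥(zpowers (q (y 5))) => (y' : X)) hab
          exact Subtype.ext (Subtype.ext h)
        refine (Nat.card_le_card_of_injective _ hinj).trans ?_
        rw [Nat.card_zpowers]
        exact orderOf_le_of_pow_eq_one (by norm_num) (by rw [pow_two, H.t_sq])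
      have hk0 : 0 < Nat.card ↥f.ker := Nat.card_pos
      have hcK : Nat.card ↥K = Nat.card ↥f.ker * 76532479683774853939200 := by
        rw [card_of_ext hf, hcard]
      have h3 : Nat.card ↥f.ker = 1 ∨ Nat.card ↥f.ker = 2 := by omega
      rcases h3 with h3 | h3
      · rw [hcK, h3, one_mul] at hd2
        exact fm9_of_primes (N := 76532479683774853939200) [(2, 37), (3, 9), (5, 2), (7, 2), (11, 1), (13, 1), (17, 1), (19, 1)] (by
            intro x hx
            simp only [List.mem_cons, List.not_mem_nil, or_false] at hx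
            rcases hx with rfl | rfl | rfl | rfl | rfl | rfl | rfl | rfl <;> norm_num) (by norm_num) (by
            intro x hx
            simp only [List.mem_cons, List.not_mem_nil, or_false] at hx
            rcases hx with rfl | rfl | rfl | rfl | rfl | rfl | rfl | rfl <;> norm_num) (by norm_num)
          (Fintype.card F') hF' hd2.symm
      · rw [hcK, h3] at hd2
        exact fm9_of_primes [(2, 38), (3, 9), (5, 2), (7, 2), (11, 1), (13, 1), (17, 1), (19, 1)]
          (N := 2 * 76532479683774853939200) (by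
            intro x hx
            simp only [List.mem_cons, List.not_mem_nil, or_false] at hx
            rcases hx with rfl | rfl | rfl | rfl | rfl | rfl | rfl | rfl <;> norm_num) (by norm_num) (by
            intro x hx
            simp only [List.mem_cons, List.not_mem_nil, or_false] at hx
            rcases hx with rfl | rfl | rfl | rfl | rfl | rfl | rfl | rfl <;> norm_num) (by norm_num)
          (Fintype.card F') hF' hd2.symm
    · rintro ⟨F', _, _, hF', ⟨g⟩⟩
      rw [Nat.card_congr g.toEquiv, card_PSL_three F' hF'] at he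
      norm_num at he
  · intro u d huu hu1 hd hc hud K hK
    have hu2 : orderOf u = 2 := orderOf_eq_prime (by rw [pow_two, huu]) hu1
    refine case_two hE hcard (Bs.trans H.t_sq H.t_ne) hN ?_ huu hu1 hd hc hud (bal u hu2) hK
    intro d hd
    obtain ⟨g, rfl⟩ := isConj_iff.1 hd
    have h1 := H.comap (MulAut.conj g⁻¹)
    have h2 : (MulAut.conj g⁻¹).symm (q (y 5)) = g * q (y 5) * g⁻¹ := by
      rw [MulEquiv.symm_apply_eq, MulAut.conj_apply]
      group
    rw [h2] at h1
    exact ⟨_, _, h1⟩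

end all

end Cfsg.Agent.BabyComp.NoSpec

end

-- merged: Cfsg.Agent.BabyU.KeyInst
section

/-!
# The list of the involutions of `²E₆(2)` and of its double cover
-/

set_option autoImplicit false

namespace Cfsg.Agent.BabyU.KeyInst

open Cfsg.Lie Cfsg.Agent.BabyU.Lab Cfsg.Agent.BabyU.RootCfg
open Cfsg.Agent.TwoESix Cfsg.Agent.TwoESix.Cox10 Cfsg.Agent.TwoESix.Lift Cfsg.Agent.TwoESix.Cover

universe u

variable {K : Type} [Field K] [Fintype K]

/-- The facts `Extra`. -/
theorem extra (hF : Fintype.card K = 2 ^ 2) : Key.Extra hF (rootClass K) where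
  opp_trans r hr s hs r' hr' s' hs' h h' :=
    (ExtTwisted.basic K hF).opp_trans r hr s hs r' hr' s' hs' h.1 h.2 h'.1 h'.2
  spe := KeyExtra.spe hF
  odd := KeyExtra.odd hF
  ker := KeyExtra.ker hF
  quad := by
    obtain ⟨p, q, r, s, p', q', r', h1, h2, h3⟩ := KeyQuad.quad K hF
    exact ⟨p, q, r, s, p', q', r', h1, h2, h3⟩

/-- The input `key` of `Lit.result`. -/
theorem keyE [Finite HB] (hcard : Nat.card HB ≤ Nat.card (twistedE6 K 2)) {G : Type u} [Group G] {t : G}
    {M : Subgroup G} {π : M →* twistedE6 K 2} {hF : Fintype.card K = 2 ^ 2}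
    (H : Ident.Hyp hF t M π (rootClass K)) : KeyM.KeyE t M π (rootClass K) (Key.Tri (rootClass K)) := by
  obtain ⟨e, r, h1, h2, h3, -, h5⟩ := GoodInst.exists_good K hF
  have heT : ∀ i, e i ∈ rootClass K := fun i => by
    obtain ⟨g, hg⟩ := h5 i
    exact ⟨g, r, h3, hg⟩
  obtain ⟨m, hz, hmT⟩ := Chain.exists_lifts H.S h1 h2 hcard heT
  exact TriLifts.keyE H.S (RootsInst.roots K hF) H.RF (extra hF) hz hmT

end Cfsg.Agent.BabyU.KeyInst

end

-- merged: Cfsg.Agent.BabyComp.EFacts
section

/-!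
# `²E₆(2)` is on the `C₂` list and of characteristic 2 type (helper30)
-/

set_option autoImplicit false

open Subgroup

namespace Cfsg.Agent.BabyComp.EFacts

open Cfsg Cfsg.Lie

theorem charP_two {K : Type} [Field K] [Fintype K] (hK : Fintype.card K = 4) : CharP K 2 := by
  obtain ⟨p, hp⟩ := CharP.exists K
  obtain ⟨n, hp1, hn⟩ := FiniteField.card K p
  rw [hK] at hn
  have h1 : p ∣ 4 := by rw [hn]; exact dvd_pow_self p n.pos.ne'
  have h2 : p ∣ 2 ^ 2 := by norm_num; exact h1
  have h3 := (Nat.prime_dvd_prime_iff_eq hp1 Nat.prime_two).1 (hp1.dvd_of_dvd_pow h2)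
  rw [← h3]
  exact hp

/-- In a group of characteristic 2 type the centralizers of involutions are of characteristic 2. -/
theorem ct_of_type {G : Type*} [Group G] (h1 : IsCharacteristicTwoType G) (v : G) (hv : orderOf v = 2) :
    IsOfCharacteristicTwo ↥(centralizer ({v} : Set G)) := by
  have hvv : v * v = 1 := by rw [← pow_two, ← hv, pow_orderOf_eq_one]
  have hv1 : v ≠ 1 := by
    rintro rfl
    rw [orderOf_one] at hv
    omega
  have hmem : ∀ k, k ∈ zpowers v ↔ k = 1 ∨ k = v := by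
    intro k
    constructor
    · intro hk
      obtain ⟨j, rfl⟩ := mem_zpowers_iff.1 hk
      rcases Int.even_or_odd j with ⟨i, rfl⟩ | ⟨i, rfl⟩
      · left; rw [← two_mul, zpow_mul, zpow_two, hvv, one_zpow]
      · right; rw [zpow_add, zpow_mul, zpow_two, hvv, one_zpow, one_mul, zpow_one]
    · rintro (rfl | rfl)
      · exact one_mem _
      · exact mem_zpowers _
  have h2 := h1.2 (zpowers v) (fun x => by
    obtain ⟨x, hx⟩ := x
    refine ⟨1, Subtype.ext ?_⟩
    show x ^ 2 ^ 1 = 1
    rcases (hmem x).1 hx with rfl | rfl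
    · rw [one_pow]
    · rw [pow_one, pow_two, hvv]) (fun h => hv1 (zpowers_eq_bot.1 h))
  have h3 : normalizer ((zpowers v : Subgroup G) : Set G) = centralizer {v} := by
    ext g
    rw [mem_normalizer_iff, mem_centralizer_singleton_iff]
    constructor
    · intro h
      have h4 := (h v).1 (mem_zpowers v)
      rw [hmem] at h4
      rcases h4 with h4 | h4
      · exfalso
        apply hv1
        have h5 : v = g⁻¹ * (g * v * g⁻¹) * g := by group
        rw [h5, h4]; group
      · exact mul_inv_eq_iff_eq_mul.1 h4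
    · intro h k
      have h4 : g * v * g⁻¹ = v := by rw [h, mul_inv_cancel_right]
      rw [hmem, hmem]
      constructor
      · rintro (rfl | rfl)
        · left; group
        · right; exact h4
      · rintro (h5 | h5)
        · left
          have h6 : k = g⁻¹ * (g * k * g⁻¹) * g := by group
          rw [h6, h5]; group
        · right
          have h6 : k = g⁻¹ * (g * k * g⁻¹) * g := by group
          rw [← h4] at h5
          rw [h6, h5]; group
  rwa [h3] at h2

variable (K : Type) [Field K] [Fintype K] (hK : Fintype.card K = 4)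

include hK

theorem twisted : IsTwistedE6D4Char 2 (twistedE6 K 2) :=
  ⟨K, inferInstance, inferInstance, charP_two hK, 2, Nat.prime_two.isPrimePow,
    Or.inl ⟨by rw [hK]; norm_num, ⟨MulEquiv.refl _⟩⟩⟩

theorem cpSimple : IsCpSimple 2 (twistedE6 K 2) :=
  Or.inl (Or.inl (Or.inr (Or.inr (Or.inr (Or.inr (Or.inr (Or.inr (Or.inr (Or.inl (twisted K hK))))))))))

theorem noncomm : ∃ a b : twistedE6 K 2, a * b ≠ b * a := by
  obtain ⟨a, b, h⟩ := MonsterN.EInst.nc K hK
  exact ⟨a, b, h⟩

/-- **The centralizers of involutions of `²E₆(2)` are of characteristic 2.** -/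
theorem charTwo (v : twistedE6 K 2) (hv : orderOf v = 2) :
    IsOfCharacteristicTwo ↥(centralizer ({v} : Set (twistedE6 K 2))) := by
  have hs := MonsterN.EInst.isSimple K hK
  have : Fact (Nat.Prime 2) := ⟨Nat.prime_two⟩
  exact ct_of_type ((KFacts.RgdLieCharP.hasFilt_of_lie (p := 2)
      (Or.inr (Or.inr (Or.inr (Or.inr (Or.inr (Or.inr (Or.inr (twisted K hK))))))))).charTwo (noncomm K hK)) v hv

end Cfsg.Agent.BabyComp.EFacts

end

-- merged: Cfsg.Agent.BabyComp.Par
section

/-!
# `CompC2` for the presented Baby Monster, from a model of the Monster (helper30)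
-/

set_option autoImplicit false

open Subgroup

namespace Cfsg.Agent.BabyComp.Par

open Cfsg Cfsg.Lie Cfsg.Agent.Bimonster Cfsg.Agent.BabyU Cfsg.Agent.TwoESix.Cover
open Cfsg.Agent.MonsterX.KSide Cfsg.Agent.MonsterX.KLift Cfsg.Agent.MonsterX.KModel
open Cfsg.Agent.MonsterX.Model Cfsg.Agent.MonsterX.MainPack Cfsg.Agent.MonsterX.MainSimple
open Cfsg.Agent.MonsterX.MainBasic Cfsg.Agent.MonsterU.Assembly Cfsg.Agent.MonsterN Cfsg.Agent.MonsterN.Lit
open Cfsg.Agent.MonsterN.LitInst Cfsg.Agent.MonsterU.Lam2 Cfsg.Agent.MonsterU.TwoCls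

variable {V P W : Type} [AddCommGroup V] [Module ℚ V] [Group P] [AddCommGroup W] [Module ℚ W]
  {D : MData V} {M : KS ↥D.G V P W} {x₀ : P} {θ : leechLattice → P} {K₀ : Type} [Group K₀]

/-- The class of `t1` has at most 13571955000 elements. -/
theorem card_class {t : Spor.BabyMonster} [Finite Spor.BabyMonster]
    (ht : IsConj t (PresentedGroup.of Spor.BabyMonster.Gen.t1 : Spor.BabyMonster)) :
    Nat.card ↥{s : Spor.BabyMonster | IsConj t s} ≤ 13571955000 := by
  refine (NoSpec.card_class_le t).trans ?_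
  have h1 : Nat.card (centralizer ({t} : Set Spor.BabyMonster)) = 306129918735099415756800 := by
    rw [CardK.card_centralizer_isConj ht]
    exact BM.KHAll.card_cent .t1
  have h2 := (centralizer ({t} : Set Spor.BabyMonster)).card_mul_index
  rw [h1, (S1704.result : Cfsg.IsB Cfsg.Spor.BabyMonster).2] at h2
  omega

/-- **The condition at the involutions of the Baby Monster.** -/
theorem both (A : All D K₀) (H : Link D M x₀) (L : Lift M θ) {τ : D.G} {y' : P}
    (T : Cfsg.Agent.MonsterU.InvTwo.TauHyp M θ ⊤ τ y') {y : ℕ → D.G} (hP : PRel y) (hne : y 0 ≠ y 1)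
    (hy : ∃ g : D.G, g * tG A.hG A.hR * g⁻¹ = y 10)
    (bal : ∀ u : Spor.BabyMonster, orderOf u = 2 → centralizerPPrimeCore 2 u = ⊥) :
    (CpAut.AllKnown.{0} → CpAut.TwoAbs.Table.{0} → ∀ u : Spor.BabyMonster, orderOf u = 2 →
      CTwoTab.At Spor.BabyMonster u) ∧
    ∀ u : Spor.BabyMonster, orderOf u = 2 → ∀ K : Subgroup Spor.BabyMonster,
      IsComponentOf K (centralizer ({u} : Set Spor.BabyMonster)) → SevenCases.NoSpec ↥K := by
  have hfin : Finite D.G := G_finite A.hO
  have hB : Cfsg.IsB Cfsg.Spor.BabyMonster := Cfsg.Agent.S1704.result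
  obtain ⟨⟨h1, h2, h3⟩, h43⟩ := ModelB.fieldsKS A H L hP hne hy hB H.x₀_mem
  obtain ⟨f₁, f₂, f₃, f₄, Fc, hcz, hcd, p, hp, hp2, hp2'⟩ := FusInst.exists_facts A H L T H.x₀_mem
  have hzm : M.z ∈ BB M x₀ := mem_centralizer_singleton_iff.2 (by
    show M.ι M.zc * M.ι x₀ = M.ι x₀ * M.ι M.zc
    rw [← map_mul, ← map_mul, M.zc_comm])
  have hE : Emb (BB M x₀).subtype M.z (tb M x₀) f₁ f₂ f₃ :=
    ⟨Subtype.val_injective, nineteen H A, ((BB M x₀).subtype.map_isConj (hcz hzm)).symm, hcd⟩
  -- the group `²E₆(2)`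
  let K := GaloisField 2 2
  let _i : Fintype K := Fintype.ofFinite K
  have hK : Fintype.card K = 4 := by
    rw [← Nat.card_eq_fintype_card]
    exact GaloisField.card 2 2 (by norm_num)
  have hF : Fintype.card K = 2 ^ 2 := by rw [hK]; norm_num
  have hsE := EInst.isSimple K hK
  obtain ⟨e0, r, he0, hgen, hr, -, hconj⟩ := TwoESix.GoodInst.exists_good K hK
  have hR : ∀ i, e0 i ∈ rootClass K := fun i => by
    obtain ⟨g, hg⟩ := hconj i
    exact ⟨g, r, hr, hg⟩
  have hHB : Finite HB := Cfsg.Agent.BM.HBFinal.finite_HB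
  have hcard := Cfsg.Agent.BM.HBFinal.hcard K hK
  have big_a : KEq.Big (BB M x₀) (tb M x₀) f₁ := by
    have hm : M.ι p ∈ BB M x₀ := by rw [← hp]; exact f₁.2
    have e : f₁ = ⟨M.ι p, hm⟩ := Subtype.ext hp
    rw [e]
    exact BigAConf.big_a L T H.x₀_mem h43 hp2 hp2'
  obtain ⟨q, yB, hpre, π, hq, h10, DK, hc5, hq5⟩ :=
    NodesB.nodes he0 hgen hcard (Cfsg.Agent.BM.HBFinal.card_E K hK) hR h1 h2 h3 Fc hE
  obtain ⟨M₁, Bs⟩ := BaseB.exists_base hq5
  have hfX : Finite Spor.BabyMonster := Finite.of_surjective q hq.surj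
  have big : KEq.Big (BB M x₀) (tb M x₀) (yB 5) := big_a.conj (fun x => (Fc.cen x).symm) hc5
  have hz : M.z = zG A.hG := Subtype.ext H.z_eq.symm
  have hL : Cfsg.Agent.Co2Type.Quad.Large (D.Q.subgroupOf D.G) M.z := by
    rw [hz]
    exact Cfsg.Agent.MonsterU.ModelChart.large A.hG A.hR A.hL A.hO A.hT
  have hr : ∀ x : D.G, x * (BB M x₀).subtype (tb M x₀) = (BB M x₀).subtype (tb M x₀) * x →
      ∃ b, (BB M x₀).subtype b = x := fun x hx => ⟨⟨x, mem_centralizer_singleton_iff.2 hx⟩, rfl⟩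
  refine ⟨fun hS hTab u hu => ?_, fun u hu K' hK' => ?_⟩
  · exact Main.at_all (E := twistedE6 K 2) (hF := hF) hq h10 DK Fc hE.inj hr hE.conj_z hE.conj_d hL hc5 big
      (Cfsg.Agent.TwoESix.LeviG.rootFacts hK hF) (KeyInst.extra hF) (Cfsg.Agent.TwoESix.RootsInst.roots K hF)
      (EFacts.noncomm K hK) (EFacts.cpSimple K hK) (Cfsg.Agent.BM.HBFinal.card_E K hK) (EFacts.charTwo K hK) hS hTab
      Bs bal u hu
  · exact NoSpec.noSpec_all (E := twistedE6 K 2) (hF := hF) hq h10 DK Fc hE.inj hr hE.conj_z hE.conj_d hL hc5 big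
      (Cfsg.Agent.TwoESix.LeviG.rootFacts hK hF) (KeyInst.extra hF) (Cfsg.Agent.TwoESix.RootsInst.roots K hF)
      (EFacts.noncomm K hK) (Cfsg.Agent.BM.HBFinal.card_E K hK) (EFacts.charTwo K hK) Bs (card_class hq5) bal u hu
      K' hK'

end Cfsg.Agent.BabyComp.Par

end
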