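import Cfsg.Agent.CTwoTab.Good
import Cfsg.Agent.Lib.ThompsonPQ
import Cfsg.Agent.R01.Lifts
import Cfsg.Agent.SignalizersComponents.ComponentImage
import Cfsg.Agent.CpAut.TwoAbs
import Cfsg.Agent.S0200
import Cfsg.Agent.CTwoTab.Base

-- merged: Cfsg.Agent.BabyComp.Abs
section

/-!
# Components of the centralizers of involutions in a central quotient `q : B → X` (helper30)

`B = 2.X` is the centralizer of an involution `T` of a larger group `Γ` (the Monster, `X` the Baby Monster).

* `comp_mono` : a component of `C` contained in `D ≤ C` is a component of `D`;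
* `no_comp` : no component in `C_X(q v)` if `v` or `τ v` is an involution of `Γ` whose centralizer is of
  characteristic 2.
-/

set_option autoImplicit false

namespace Cfsg.Agent.BabyComp.Abs

open Subgroup Cfsg Cfsg.Agent.CTwoTab Cfsg.Agent.R01.Lifts
open Cfsg.Agent.SignalizersComponents

/-! ### Components of subgroups -/

theorem comp_mono {X : Type*} [Group X] {K C D : Subgroup X} (hK : IsComponentOf K C) (hKD : K ≤ D)
    (hDC : D ≤ C) : IsComponentOf K D := by
  refine ⟨hKD, ?_, ?_⟩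
  · have h2 := hK.2.1.comap (Subgroup.inclusion hDC)
    have h3 : (K.subgroupOf C).comap (Subgroup.inclusion hDC) = K.subgroupOf D := by
      ext x
      simp [mem_subgroupOf]
    rwa [h3] at h2
  · exact Components.isQuasisimple_of_mulEquiv
      ((subgroupOfEquivOfLe hK.1).trans (subgroupOfEquivOfLe hKD).symm) hK.2.2

theorem quasisimple_of_comp {X : Type*} [Group X] {K C : Subgroup X} (hK : IsComponentOf K C) :
    IsQuasisimple ↥K :=
  Components.isQuasisimple_of_mulEquiv (subgroupOfEquivOfLe hK.1) hK.2.2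

/-- If the elements of odd order of `⟨b⟩` are trivial then `b` is a 2-element. -/
theorem exists_pow_eq_one {G : Type*} [Group G] [Finite G] {b : G}
    (h : ∀ n : ℕ, (orderOf (b ^ n)).Coprime 2 → b ^ n = 1) : ∃ n : ℕ, b ^ 2 ^ n = 1 := by
  obtain ⟨k, m, hm, hkm⟩ := Nat.exists_eq_pow_mul_and_not_dvd (orderOf_pos b).ne' 2 (by norm_num)
  refine ⟨k, h _ ?_⟩
  have ho : orderOf (b ^ 2 ^ k) = m := by
    rw [orderOf_pow, hkm, Nat.gcd_eq_right (Dvd.intro _ rfl)]
    exact Nat.mul_div_cancel_left m (by positivity)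
  rw [ho]
  exact ((Nat.Prime.coprime_iff_not_dvd Nat.prime_two).2 hm).symm

/-- A subgroup consisting of 2-elements is not quasisimple. -/
theorem not_quasisimple_of_two {X : Type*} [Group X] [Finite X] {K : Subgroup X}
    (h : ∀ k ∈ K, ∃ n : ℕ, k ^ 2 ^ n = 1) : ¬ IsQuasisimple ↥K := by
  intro hK
  have : Fact (Nat.Prime 2) := ⟨Nat.prime_two⟩
  have h1 : IsPGroup 2 ↥K := fun k => by
    obtain ⟨n, hn⟩ := h k k.2
    exact ⟨n, Subtype.ext hn⟩
  have h2 := h1.isNilpotent
  exact Components.quasisimple_not_isSolvable hK inferInstance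

/-! ### Centralizers of characteristic two -/

/-- An element of odd order of `C(g, T)` which centralizes `C_Q(T)`, `Q = O₂(C(g))`, `C(g)` of characteristic 2. -/
theorem odd_eq_one {Γ : Type*} [Group Γ] [Finite Γ] {Q : Subgroup Γ} (hQ : IsPGroup 2 Q) {T g y : Γ}
    (hT : T * T = 1)
    (hn : ∀ x, x * g = g * x → ∀ r ∈ Q, x * r * x⁻¹ ∈ Q)
    (hc : ∀ x, x * g = g * x → (∀ r ∈ Q, x * r = r * x) → x ∈ Q)
    (hTg : T * g = g * T) (hyg : y * g = g * y) (hyT : y * T = T * y) (hy : (orderOf y).Coprime 2)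
    (hfix : ∀ r ∈ Q, r * T = T * r → y * r = r * y) : y = 1 := by
  have : Fact (Nat.Prime 2) := ⟨Nat.prime_two⟩
  have hnorm : ∀ x, x * g = g * x → x ∈ normalizer (Q : Set Γ) := by
    intro x hx
    rw [mem_normalizer_iff]
    intro r
    refine ⟨fun hr => hn x hx r hr, fun hr => ?_⟩
    have hx' : x⁻¹ * g = g * x⁻¹ := by
      rw [inv_mul_eq_iff_eq_mul, ← mul_assoc, hx, mul_inv_cancel_right]
    have h1 := hn x⁻¹ hx' _ hr
    have h2 : x⁻¹ * (x * r * x⁻¹) * x⁻¹⁻¹ = r := by group
    rwa [h2] at h1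
  have hzT : ∀ s ∈ zpowers T, s * g = g * s := by
    intro s hs
    obtain ⟨n, rfl⟩ := mem_zpowers_iff.1 hs
    exact (show Commute T g from hTg).zpow_left n
  have hzy : ∀ s ∈ zpowers y, s * g = g * s := by
    intro s hs
    obtain ⟨n, rfl⟩ := mem_zpowers_iff.1 hs
    exact (show Commute y g from hyg).zpow_left n
  have h1 := Lib.ThompsonPQ.thompson_p_times_q 2 (zpowers T) (zpowers y) Q ?_ ?_ hQ ?_
    (fun s hs => hnorm s (hzT s hs)) (fun s hs => hnorm s (hzy s hs)) ?_
  · have h2 : y ∈ Q := hc y hyg fun r hr => ((mem_centralizer_iff.1 (h1 (mem_zpowers y))) r hr).symm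
    obtain ⟨n, hn'⟩ := hQ ⟨y, h2⟩
    have h3 : y ^ 2 ^ n = 1 := congrArg Subtype.val hn'
    have h4 : orderOf y ∣ 2 ^ n := orderOf_dvd_of_pow_eq_one h3
    have h5 : orderOf y = 1 := Nat.eq_one_of_dvd_coprimes (hy.pow_right n) (dvd_refl _) h4
    exact orderOf_eq_one_iff.1 h5
  · intro s
    obtain ⟨n, hn'⟩ := mem_zpowers_iff.1 s.2
    refine ⟨1, Subtype.ext ?_⟩
    rw [coe_pow, coe_one, ← hn', pow_one, ← zpow_natCast, ← zpow_mul, mul_comm, zpow_mul]
    rw [show T ^ ((2 : ℕ) : ℤ) = 1 by rw [zpow_natCast, pow_two, hT], one_zpow]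
  · rwa [Nat.card_zpowers]
  · rw [zpowers_le, mem_centralizer_iff]
    intro s hs
    obtain ⟨n, rfl⟩ := mem_zpowers_iff.1 hs
    exact (show Commute y T from hyT).zpow_left n
  · rintro r ⟨hr, hrT⟩
    rw [mem_centralizer_iff]
    intro s hs
    obtain ⟨n, rfl⟩ := mem_zpowers_iff.1 hs
    have h3 : r * T = T * r := ((mem_centralizer_iff.1 hrT) T (mem_zpowers T)).symm
    exact (show Commute y r from hfix r hr h3).zpow_left n

section quot

variable {X B Γ : Type*} [Group X] [Group B] [Group Γ] [Finite X] [Finite B] [Finite Γ]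
  {q : B →* X} {τ : B}

/-- The image of the centralizer of `v` contains the perfect subgroups of the centralizer of `q v`. -/
theorem le_map (hq : Ext q τ) {v : B} {K : Subgroup X} (hK : K ≤ centralizer ({q v} : Set X))
    (hperf : ⁅K, K⁆ = K) : K ≤ (centralizer ({v} : Set B)).map q := by
  refine perfect_le_of_sq (C := centralizer ({q v} : Set X)) ?_ K hK hperf
  intro a ha
  obtain ⟨b, rfl⟩ := hq.surj a
  rw [mem_centralizer_singleton_iff] at ha
  refine ⟨b * b, ?_, map_mul q b b⟩
  rw [SetLike.mem_coe, mem_centralizer_singleton_iff]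
  have h1 := hq.conj_of_commute (g := b) (a := v) ha
  have h2 : b * v = v * b ∨ b * v = v * τ * b := by
    rcases h1 with h | h
    · left; exact mul_inv_eq_iff_eq_mul.1 h
    · right; exact mul_inv_eq_iff_eq_mul.1 h
  rcases h2 with h | h
  · rw [mul_assoc, h, ← mul_assoc, h, mul_assoc]
  · calc b * b * v = b * (b * v) := mul_assoc _ _ _
      _ = b * (v * τ * b) := by rw [h]
      _ = (b * v) * (τ * b) := by group
      _ = v * τ * b * (τ * b) := by rw [h]
      _ = v * (b * τ) * (τ * b) := by rw [hq.comm b]; group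
      _ = v * b * (τ * τ) * b := by group
      _ = v * (b * b) := by rw [hq.zz, mul_one, mul_assoc]

/-- **No component**: `v` or `τ v` is an involution with centralizer of characteristic 2 in `Γ`. -/
theorem no_comp (hq : Ext q τ) {θ : B →* Γ} (hθ : Function.Injective θ)
    (hr : ∀ x : Γ, x * θ τ = θ τ * x → ∃ b, θ b = x)
    {v w : B} (hvw : w = v ∨ w = v * τ) {Q : Subgroup Γ} (hQ : IsPGroup 2 Q)
    (hn : ∀ x, x * θ w = θ w * x → ∀ r ∈ Q, x * r * x⁻¹ ∈ Q)
    (hc : ∀ x, x * θ w = θ w * x → (∀ r ∈ Q, x * r = r * x) → x ∈ Q)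
    (hQw : ∀ r ∈ Q, r * θ w = θ w * r) (K : Subgroup X) :
    ¬ IsComponentOf K (centralizer ({q v} : Set X)) := by
  intro hK
  have hqv : q w = q v := by
    rcases hvw with rfl | rfl
    · rfl
    · rw [map_mul, hq.mapz, mul_one]
  rw [← hqv] at hK
  clear hvw hqv v
  have hperf := isPerfect_of_comp hK
  have hKD := le_map hq hK.1 hperf
  set D : Subgroup X := (centralizer ({w} : Set B)).map q with hD
  have hDC : D ≤ centralizer ({q w} : Set X) := by
    rintro _ ⟨b, hb, rfl⟩
    rw [SetLike.mem_coe, mem_centralizer_singleton_iff] at hb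
    rw [mem_centralizer_singleton_iff, ← map_mul, hb, map_mul]
  have hK' := comp_mono hK hKD hDC
  let R₀ : Subgroup B := Q.comap θ
  have hR₀ : ∀ r ∈ R₀, r * w = w * r := by
    intro r hr'
    apply hθ
    rw [map_mul, map_mul]
    exact hQw _ hr'
  have hRw : ∀ r ∈ R₀, q r ∈ D := fun r hr' =>
    ⟨r, by rw [SetLike.mem_coe, mem_centralizer_singleton_iff]; exact hR₀ r hr', rfl⟩
  have hnR : ∀ b : B, b * w = w * b → ∀ r ∈ R₀, b * r * b⁻¹ ∈ R₀ := by
    intro b hb r hr'
    show θ (b * r * b⁻¹) ∈ Q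
    rw [map_mul, map_mul, map_inv]
    exact hn (θ b) (by rw [← map_mul, hb, map_mul]) _ hr'
  have hcomm := comp_comm_solvable (R := R₀.map q) hK' (by
      rintro _ ⟨r, hr', rfl⟩
      exact hRw r hr')
    (by
      rintro _ ⟨b, hb, rfl⟩ _ ⟨r, hr', rfl⟩
      rw [SetLike.mem_coe, mem_centralizer_singleton_iff] at hb
      exact ⟨b * r * b⁻¹, hnR b hb r hr', by rw [map_mul, map_mul, map_inv]⟩)
    (by
      have : Fact (Nat.Prime 2) := ⟨Nat.prime_two⟩
      have h1 : IsPGroup 2 ↥(R₀.map q) := by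
        rintro ⟨_, r, hr', rfl⟩
        obtain ⟨n, hn'⟩ := hQ ⟨θ r, hr'⟩
        refine ⟨n, Subtype.ext ?_⟩
        have h2 : θ r ^ 2 ^ n = 1 := congrArg Subtype.val hn'
        rw [← map_pow] at h2
        show q r ^ 2 ^ n = 1
        rw [← map_pow, hθ (h2.trans (map_one θ).symm), map_one]
      have := h1.isNilpotent
      infer_instance)
  refine not_quasisimple_of_two ?_ (quasisimple_of_comp hK)
  intro k hk
  obtain ⟨b, hb, rfl⟩ := hKD hk
  rw [SetLike.mem_coe, mem_centralizer_singleton_iff] at hb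
  have hb2 : ∀ r ∈ R₀, (b * b) * r = r * (b * b) := by
    intro r hr'
    have h1 := hcomm (q b) hk (q r) ⟨r, hr', rfl⟩
    rw [← map_mul, ← map_mul] at h1
    rcases hq.map_eq.1 h1 with h2 | h2
    · rw [mul_assoc, h2, ← mul_assoc, h2, mul_assoc]
    · calc b * b * r = b * (b * r) := mul_assoc _ _ _
        _ = b * (r * b * τ) := by rw [h2]
        _ = (b * r) * (b * τ) := by group
        _ = (r * b * τ) * (b * τ) := by rw [h2]
        _ = r * b * (τ * b) * τ := by group
        _ = r * b * (b * τ) * τ := by rw [← hq.comm b]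
        _ = r * (b * b) * (τ * τ) := by group
        _ = r * (b * b) := by rw [hq.zz, mul_one]
  have h3 : ∃ n : ℕ, (b * b) ^ 2 ^ n = 1 := by
    apply exists_pow_eq_one
    intro n hodd
    apply hθ
    rw [map_one]
    have hbw : (b * b) ^ n * w = w * (b * b) ^ n :=
      ((show Commute b w from hb).mul_left (show Commute b w from hb)).pow_left n
    refine odd_eq_one hQ (T := θ τ) (g := θ w) (by rw [← map_mul, hq.zz, map_one]) hn hc
      (by rw [← map_mul, ← map_mul, hq.comm]) (by rw [← map_mul, hbw, map_mul])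
      (by rw [← map_mul, ← map_mul, hq.comm]) ?_ ?_
    · rwa [orderOf_injective θ hθ]
    · intro r hr' hrT
      obtain ⟨s, rfl⟩ := hr r hrT
      rw [← map_mul, ← map_mul]
      exact congrArg θ ((show Commute (b * b) s from hb2 s hr').pow_left n)
  obtain ⟨n, hn'⟩ := h3
  refine ⟨n + 1, ?_⟩
  rw [pow_succ', pow_mul, pow_two, ← map_mul, ← map_pow, hn', map_one]

end quot

end Cfsg.Agent.BabyComp.Abs

end

-- merged: Cfsg.Agent.BabyComp.Fix
section

/-!
# Components of fixed points of involutory automorphisms (helper30)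

* `comp_simple` : `X` a finite group in which the centralizers of involutions are of characteristic 2; a component `L`
  of even order of `X` is simple, normal, self-centralizing, and the centralizers of its involutions are of characteristic 2.
-/

set_option autoImplicit false

namespace Cfsg.Agent.BabyComp.Fix

open Subgroup Cfsg Cfsg.Agent.CpAut Cfsg.Agent.CpAut.TwoAbs

universe u

theorem comp_simple {X : Type u} [Group X] [Finite X]
    (hct : ∀ u : X, orderOf u = 2 → IsOfCharacteristicTwo ↥(centralizer ({u} : Set X)))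
    (L : Subgroup X) (hL : IsComponent L) (hL2 : 2 ∣ Nat.card ↥L) :
    IsSimpleGroup ↥L ∧ L.Normal ∧ centralizer (L : Set X) = ⊥ ∧
      ∀ v : ↥L, orderOf v = 2 → IsOfCharacteristicTwo ↥(centralizer ({v} : Set ↥L)) := by
  have : Fact (Nat.Prime 2) := ⟨Nat.prime_two⟩
  have hodd : Odd (Nat.card ↥(centralizer (L : Set X))) := by
    rw [← Nat.not_even_iff_odd]
    intro hev
    obtain ⟨v, hv⟩ := exists_prime_orderOf_dvd_card' 2 hev.two_dvd
    have hLv : L ≤ centralizer ({(v : X)} : Set X) := by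
      intro l hl
      rw [mem_centralizer_singleton_iff]
      exact mem_centralizer_iff.1 v.2 l hl
    exact no_component_of_ct (hct (v : X) (by rw [Subgroup.orderOf_coe, hv])) _
      (SignalizersComponents.Components.isComponent_subgroupOf hLv hL)
  have hLn : L.Normal := by
    constructor
    intro l hl g
    by_contra hne
    have h1 := SignalizersComponents.Components.isComponent_conj g hL
    have h2 : L.map (MulAut.conj g).toMonoidHom ≠ L := by
      intro h3
      apply hne
      rw [← h3]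
      exact ⟨l, hl, rfl⟩
    have h3 := SignalizersComponents.Components.component_le_centralizer_of_ne h1 hL h2
    have h4 : 2 ∣ Nat.card ↥(L.map (MulAut.conj g).toMonoidHom) := by
      rwa [← Nat.card_congr (L.equivMapOfInjective (MulAut.conj g).toMonoidHom (MulAut.conj g).injective).toEquiv]
    have h5 := h4.trans (card_dvd_of_le h3)
    exact (Nat.not_even_iff_odd.2 hodd) (even_iff_two_dvd.2 h5)
  have hC : centralizer (L : Set X) = ⊥ := by
    have h1 : (centralizer (L : Set X)).Normal := normal_centralizer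
    obtain ⟨v, hv⟩ := exists_prime_orderOf_dvd_card' 2 hL2
    have hle : centralizer (L : Set X) ≤ centralizer ({(v : X)} : Set X) :=
      centralizer_le (Set.singleton_subset_iff.2 v.2)
    have h2 : ((centralizer (L : Set X)).subgroupOf (centralizer ({(v : X)} : Set X))) ≤
        pPrimeCore 2 ↥(centralizer ({(v : X)} : Set X)) := by
      refine Lib.Cores.le_pPrimeCore inferInstance ?_
      rw [Nat.card_congr (subgroupOfEquivOfLe hle).toEquiv]
      exact hodd.coprime_two_right
    rw [core_of_ct (hct (v : X) (by rw [Subgroup.orderOf_coe, hv])), le_bot_iff, subgroupOf_eq_bot,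
      disjoint_iff, inf_eq_left.2 hle] at h2
    exact h2
  have hZ : center ↥L = ⊥ := by
    rw [eq_bot_iff]
    intro z hz
    have h1 : (z : X) ∈ centralizer (L : Set X) := by
      rw [mem_centralizer_iff]
      intro l hl
      exact congrArg Subtype.val (mem_center_iff.1 hz ⟨l, hl⟩)
    rw [hC, mem_bot] at h1
    exact Subtype.ext h1
  have hs : IsSimpleGroup ↥L := by
    have h1 := hL.2.2
    exact ((QuotientGroup.quotientMulEquivOfEq hZ).trans QuotientGroup.quotientBot).symm.isSimpleGroup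
  refine ⟨hs, hLn, hC, ?_⟩
  intro v hv
  let M : Subgroup ↥(centralizer ({(v : X)} : Set X)) := L.subgroupOf (centralizer {(v : X)})
  have hMn : M.Normal := inferInstance
  let f : ↥M ≃* ↥(centralizer ({v} : Set ↥L)) :=
    { toFun := fun m => ⟨⟨m.1.1, m.2⟩, by
        rw [mem_centralizer_singleton_iff]
        exact Subtype.ext (mem_centralizer_singleton_iff.1 m.1.2)⟩
      invFun := fun c => ⟨⟨c.1.1, by
        rw [mem_centralizer_singleton_iff]
        exact congrArg Subtype.val (mem_centralizer_singleton_iff.1 c.2)⟩, c.1.2⟩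
      left_inv := fun m => rfl
      right_inv := fun c => rfl
      map_mul' := fun a b => rfl }
  exact ct_congr f (ct_of_normal (hct (v : X) (by rw [Subgroup.orderOf_coe, hv])) M)

/-- A perfect group of even order is not an extension of a group of order 1 or 2 by a group of odd order. -/
theorem even_of_perfect {K L : Type*} [Group K] [Finite K] [Group L] (hK : Group.IsPerfect K) (f : K →* L)
    (hf : Function.Surjective f) (hk : Nat.card f.ker ∣ 2) (h2 : 2 ∣ Nat.card K) : 2 ∣ Nat.card L := by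
  by_contra hcon
  have hidx : f.ker.index = Nat.card L := by
    rw [index_ker, MonoidHom.range_eq_top.2 hf, card_top]
  have hmul := f.ker.card_mul_index
  rw [hidx] at hmul
  have h3 : Nat.card f.ker = 2 := by
    rcases (Nat.dvd_prime Nat.prime_two).1 hk with h | h
    · rw [h, one_mul] at hmul
      rw [← hmul] at h2
      exact absurd h2 hcon
    · exact h
  obtain ⟨H, hH⟩ := exists_right_complement'_of_coprime (N := f.ker) (by
    rw [h3, hidx]
    exact (Nat.Prime.coprime_iff_not_dvd Nat.prime_two).2 hcon)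
  have hHi : H.index = 2 := by rw [← h3]; exact hH.index_eq_card
  have hHn : H.Normal := normal_of_index_eq_two hHi
  have hc : Nat.card (K ⧸ H) = 2 := hHi
  have : Fact (Nat.Prime 2) := ⟨Nat.prime_two⟩
  have hcomm : IsMulCommutative (K ⧸ H) := by
    have := isCyclic_of_prime_card hc
    infer_instance
  have hp : Group.IsPerfect (K ⧸ H) := Group.IsPerfect.ofSurjective (QuotientGroup.mk'_surjective H)
  have hs : Subsingleton (K ⧸ H) := inferInstance
  rw [Nat.card_of_subsingleton (1 : K ⧸ H)] at hc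
  omega

end Cfsg.Agent.BabyComp.Fix

end

-- merged: Cfsg.Agent.BabyComp.Pair
section

/-!
# Products of two commuting elements of a class of `{3,4}`-transpositions (helper30)

`T` a set of involutions of the finite group `X`, closed under conjugation, the products of two elements of which have
order at most 4.  If `u ≠ 1`, `d ∈ T`, `u d = d u ∈ T`, then `d ∈ O₂(C(u))` (`exists_normal`), hence every component
of `C(u)` commutes with `d` (`comm_of_pair`).
-/

set_option autoImplicit false

namespace Cfsg.Agent.BabyComp.Pair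

open Subgroup Cfsg Cfsg.Agent.CTwoTab

variable {X : Type*} [Group X] [Finite X] {T : Set X}

/-- The data of a class of `{3,4}`-transpositions. -/
structure Trans (T : Set X) : Prop where
  sq : ∀ s ∈ T, s * s = 1
  ne : ∀ s ∈ T, s ≠ 1
  conj : ∀ s ∈ T, ∀ g : X, g * s * g⁻¹ ∈ T
  ord : ∀ s ∈ T, ∀ t ∈ T, ∃ n : ℕ, 0 < n ∧ n ≤ 4 ∧ (s * t) ^ n = 1

theorem exists_normal (H : Trans T) {u d : X} (hu : u * u = 1) (hu1 : u ≠ 1) (hd : d ∈ T)
    (hc : u * d = d * u) (hud : u * d ∈ T) :
    ∃ N : Subgroup ↥(centralizer ({u} : Set X)), N.Normal ∧ IsPGroup 2 N ∧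
      (⟨d, mem_centralizer_singleton_iff.2 hc.symm⟩ : ↥(centralizer ({u} : Set X))) ∈ N := by
  by_contra hcon
  push Not at hcon
  have hdd := H.sq d hd
  obtain ⟨h, h1, hodd, hinv⟩ := S0200.result
    (⟨d, mem_centralizer_singleton_iff.2 hc.symm⟩ : ↥(centralizer ({u} : Set X))) (by
      rw [Subgroup.orderOf_mk]
      refine orderOf_eq_prime (by rw [pow_two, hdd]) (H.ne d hd)) hcon
  obtain ⟨η, hη⟩ : ∃ η : X, η = h := ⟨_, rfl⟩
  have hη1 : η ≠ 1 := fun e => h1 (Subtype.ext (by rw [← hη, e]; rfl))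
  have hηo : Odd (orderOf η) := by rw [hη, Subgroup.orderOf_coe]; exact hodd
  have hηu : η * u = u * η := by rw [hη]; exact mem_centralizer_singleton_iff.1 h.2
  have hηd : d * η * d⁻¹ = η⁻¹ := by rw [hη]; exact congrArg Subtype.val hinv
  have hdi : d⁻¹ = d := inv_eq_of_mul_eq_one_left hdd
  obtain ⟨r, hr⟩ := hηo
  -- the square root
  set k : X := η ^ (r + 1) with hk
  have hkk : k * k = η := by
    rw [hk, ← pow_add, show r + 1 + (r + 1) = (2 * r + 1) + 1 by ring, pow_succ, ← hr, pow_orderOf_eq_one, one_mul]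
  have hku : k * u = u * k := (show Commute η u from hηu).pow_left _
  have hkd : d * k * d⁻¹ = k⁻¹ := by rw [hk, ← conj_pow, hηd, inv_pow]
  have hkdk : k * d * k⁻¹ = η * d := by
    rw [← hkk, ← hkd, hdi]
    calc k * d * (d * k * d) = k * (d * d) * k * d := by group
      _ = k * k * d := by rw [hdd, mul_one]
  have hT1 : u * η * d ∈ T := by
    have h2 := H.conj _ hud k
    have h3 : k * (u * d) * k⁻¹ = u * η * d := by
      calc k * (u * d) * k⁻¹ = k * u * d * k⁻¹ := by group
        _ = u * (k * d * k⁻¹) := by rw [hku]; group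
        _ = u * η * d := by rw [hkdk, mul_assoc]
    rwa [h3] at h2
  obtain ⟨n, hn0, hn4, hn⟩ := H.ord _ hT1 d hd
  rw [mul_assoc (u * η) d d, hdd, mul_one] at hn
  have huη : Commute u η := hηu.symm
  rw [huη.mul_pow] at hn
  have hn2 : η ^ (2 * n) = 1 := by
    have h2 : (u ^ n * η ^ n) ^ 2 = 1 := by rw [hn, one_pow]
    rw [(huη.pow_pow n n).mul_pow, ← pow_mul, mul_comm n 2, pow_mul, pow_two u, hu, one_pow, one_mul,
      ← pow_mul, mul_comm n 2] at h2
    exact h2
  have h3 : orderOf η ∣ n := by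
    have h4 := orderOf_dvd_of_pow_eq_one hn2
    rw [hr] at h4 ⊢
    exact Nat.Coprime.dvd_of_dvd_mul_left (by
      rw [Nat.coprime_comm, Nat.coprime_two_left]
      exact ⟨r, rfl⟩) h4
  have h4 : orderOf η ≠ 1 := fun e => hη1 (orderOf_eq_one_iff.1 e)
  have h5 := Nat.le_of_dvd hn0 h3
  have h6 : orderOf η = 3 := by omega
  have h7 : n = 3 := by
    rw [h6] at h3
    omega
  have h8 : η ^ n = 1 := by rw [h7, ← h6, pow_orderOf_eq_one]
  rw [h8, mul_one, h7, pow_succ, pow_two, hu, one_mul] at hn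
  exact hu1 hn

/-- **The components of `C(u)` commute with `d`.** -/
theorem comm_of_pair (H : Trans T) {u d : X} (hu : u * u = 1) (hu1 : u ≠ 1) (hd : d ∈ T)
    (hc : u * d = d * u) (hud : u * d ∈ T) {K : Subgroup X}
    (hK : IsComponentOf K (centralizer ({u} : Set X))) : ∀ k ∈ K, k * d = d * k := by
  obtain ⟨N, hN, hN2, hdN⟩ := exists_normal H hu hu1 hd hc hud
  have : Fact (Nat.Prime 2) := ⟨Nat.prime_two⟩
  have hs : Group.IsSolvable ↥(N.map (centralizer ({u} : Set X)).subtype) := by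
    have h1 : IsPGroup 2 ↥(N.map (centralizer ({u} : Set X)).subtype) := hN2.map _
    have := h1.isNilpotent
    infer_instance
  have h1 := comp_comm_solvable (R := N.map (centralizer ({u} : Set X)).subtype) hK (map_subtype_le _) (by
    rintro g hg _ ⟨n, hn, rfl⟩
    exact ⟨⟨g, hg⟩ * n * (⟨g, hg⟩)⁻¹, hN.conj_mem n hn _, rfl⟩) hs
  intro k hk
  exact h1 k hk d ⟨_, hdN, rfl⟩

end Cfsg.Agent.BabyComp.Pair

end

-- merged: Cfsg.Agent.BabyComp.Sec
section

/-!
# A subgroup `X₀ ≤ C(t)` with `X₀ / ⟨t⟩ ≅ E` (helper30)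

`Sec t σ` : `σ : X₀ → E` onto with kernel `{1, t}`, `X₀` invariant under `C(t)`, containing the perfect subgroups of
`C(t)`.

* `exists_aut` : the automorphism of `E` induced by an involution `u ∈ C(t)`;
* `exists_comp` : a component `K` of `C(u)` contained in `C(t)` is mapped onto a component of the fixed points.
-/

set_option autoImplicit false

namespace Cfsg.Agent.BabyComp.Sec

open Subgroup Cfsg Cfsg.Agent.CTwoTab
open Cfsg.Agent.SignalizersComponents

variable {X E : Type*} [Group X] [Group E]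

/-- `σ : X₀ → E` is onto with kernel `{1, t}`. -/
structure Data (t : X) {X₀ : Subgroup X} (σ : ↥X₀ →* E) : Prop where
  t_sq : t * t = 1
  t_ne : t ≠ 1
  mem : t ∈ X₀
  comm : ∀ m ∈ X₀, m * t = t * m
  nrm : ∀ g, g * t = t * g → ∀ m ∈ X₀, g * m * g⁻¹ ∈ X₀
  perf : ∀ K : Subgroup X, K ≤ centralizer ({t} : Set X) → ⁅K, K⁆ = K → K ≤ X₀
  surj : Function.Surjective σ
  ker : ∀ m : ↥X₀, σ m = 1 ↔ (m : X) = 1 ∨ (m : X) = t
  cen : ∀ u, u * t = t * u → (∀ m ∈ X₀, u * m * u⁻¹ = m ∨ u * m * u⁻¹ = m * t) → u = 1 ∨ u = t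

variable {t : X} {X₀ : Subgroup X} {σ : ↥X₀ →* E}

theorem Data.map_eq (H : Data t σ) {a b : ↥X₀} : σ a = σ b ↔ (a : X) = b ∨ (a : X) = b * t := by
  have h1 : σ a = σ b ↔ σ (b⁻¹ * a) = 1 := by
    rw [map_mul, map_inv, inv_mul_eq_one, eq_comm]
  rw [h1, H.ker]
  constructor
  · rintro (h | h)
    · left
      have h2 : (b : X)⁻¹ * a = 1 := h
      exact (inv_mul_eq_one.1 h2).symm
    · right
      have h2 : (b : X)⁻¹ * a = t := h
      rw [← h2]; group
  · rintro (h | h)
    · left
      show (b : X)⁻¹ * a = 1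
      rw [h, inv_mul_cancel]
    · right
      show (b : X)⁻¹ * a = t
      rw [h]; group

/-- Transport of the data. -/
theorem Data.comap {Y : Type*} [Group Y] (H : Data t σ) (e : Y ≃* X) :
    Data (e.symm t) (σ.comp (e.toMonoidHom.subgroupComap X₀)) := by
  have key : ∀ a b : Y, a * b = b * a ↔ e a * e b = e b * e a := by
    intro a b
    rw [← map_mul, ← map_mul, e.injective.eq_iff]
  have hcomm : ∀ a : Y, a * e.symm t = e.symm t * a ↔ e a * t = t * e a := by
    intro a
    rw [key, e.apply_symm_apply]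
  refine ⟨by rw [← map_mul, H.t_sq, map_one], ?_, ?_, ?_, ?_, ?_, ?_, ?_, ?_⟩
  · intro h
    apply H.t_ne
    rw [← e.apply_symm_apply t, h, map_one]
  · show e (e.symm t) ∈ X₀
    rw [e.apply_symm_apply]
    exact H.mem
  · intro m hm
    exact (hcomm m).2 (H.comm _ hm)
  · intro g hg m hm
    show e (g * m * g⁻¹) ∈ X₀
    rw [map_mul, map_mul, map_inv]
    exact H.nrm _ ((hcomm g).1 hg) _ hm
  · intro K hK hp
    have h1 : K.map e.toMonoidHom ≤ X₀ := by
      refine H.perf _ ?_ ?_
      · rintro _ ⟨k, hk, rfl⟩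
        exact mem_centralizer_singleton_iff.2 ((hcomm k).1 (mem_centralizer_singleton_iff.1 (hK hk)))
      · rw [← map_commutator, hp]
    intro k hk
    exact h1 ⟨k, hk, rfl⟩
  · intro x
    obtain ⟨m, rfl⟩ := H.surj x
    refine ⟨⟨e.symm m, ?_⟩, ?_⟩
    · show e (e.symm m) ∈ X₀
      rw [e.apply_symm_apply]
      exact m.2
    · show σ ⟨e (e.symm m), _⟩ = σ m
      congr 1
      exact Subtype.ext (e.apply_symm_apply _)
  · intro m
    show σ ⟨e m, _⟩ = 1 ↔ _
    rw [H.ker]
    show e m = 1 ∨ e m = t ↔ _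
    rw [e.map_eq_one_iff, ← e.eq_symm_apply]
  · intro u hu hm
    have h1 := H.cen (e u) ((hcomm u).1 hu) (fun m hm' => by
      have h2 := hm (e.symm m) (by
        show e (e.symm m) ∈ X₀
        rw [e.apply_symm_apply]
        exact hm')
      rcases h2 with h2 | h2
      · left
        have h3 := congrArg e h2
        rwa [map_mul, map_mul, map_inv, e.apply_symm_apply] at h3
      · right
        have h3 := congrArg e h2
        rwa [map_mul, map_mul, map_inv, map_mul, e.apply_symm_apply, e.apply_symm_apply] at h3)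
    rwa [e.map_eq_one_iff, ← e.eq_symm_apply] at h1

/-- Conjugation by `u ∈ C(t)`. -/
def cj (H : Data t σ) {u : X} (hu : u * t = t * u) : ↥X₀ →* ↥X₀ where
  toFun m := ⟨u * m * u⁻¹, H.nrm u hu m m.2⟩
  map_one' := Subtype.ext (by show u * 1 * u⁻¹ = 1; group)
  map_mul' a b := Subtype.ext (by
    show u * (a * b : X) * u⁻¹ = (u * a * u⁻¹) * (u * b * u⁻¹)
    group)

theorem cj_coe (H : Data t σ) {u : X} (hu : u * t = t * u) (m : ↥X₀) :
    (cj H hu m : X) = u * m * u⁻¹ := rfl

/-- **The automorphism of `E` induced by an involution `u ∈ C(t)`.** -/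
theorem exists_aut (H : Data t σ) {u : X} (hu : u * t = t * u) (huu : u * u = 1) :
    ∃ x : MulAut E, (∀ m : ↥X₀, x (σ m) = σ (cj H hu m)) ∧ x * x = 1 := by
  have hker : σ.ker ≤ (σ.comp (cj H hu)).ker := by
    intro m hm
    rw [MonoidHom.mem_ker] at hm ⊢
    rw [MonoidHom.comp_apply, H.ker, cj_coe]
    rcases (H.ker m).1 hm with h | h
    · left; rw [h]; group
    · right; rw [h, hu, mul_inv_cancel_right]
  let f : E →* E := σ.liftOfSurjective H.surj ⟨σ.comp (cj H hu), hker⟩
  have hf : ∀ m, f (σ m) = σ (cj H hu m) := fun m =>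
    MonoidHom.liftOfRightInverse_comp_apply σ _ _ ⟨σ.comp (cj H hu), hker⟩ m
  have hff : ∀ e, f (f e) = e := by
    intro e
    obtain ⟨m, rfl⟩ := H.surj e
    rw [hf, hf]
    congr 1
    apply Subtype.ext
    rw [cj_coe, cj_coe]
    have hui : u⁻¹ = u := inv_eq_of_mul_eq_one_left huu
    rw [hui]
    calc u * (u * m * u) * u = (u * u) * m * (u * u) := by group
      _ = m := by rw [huu, one_mul, mul_one]
  refine ⟨{ toFun := f, invFun := f, left_inv := hff, right_inv := hff, map_mul' := map_mul f }, hf, ?_⟩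
  ext e
  exact hff e

/-- The automorphism is not trivial. -/
theorem orderOf_aut (H : Data t σ) {u : X} (hu : u * t = t * u) (hu1 : u ≠ 1) (hut : u ≠ t)
    {x : MulAut E} (hx : ∀ m : ↥X₀, x (σ m) = σ (cj H hu m)) (hxx : x * x = 1) : orderOf x = 2 := by
  refine orderOf_eq_prime (by rw [pow_two, hxx]) ?_
  rintro rfl
  rcases H.cen u hu (fun m hm => by
    have h1 := hx ⟨m, hm⟩
    rw [MulAut.one_apply] at h1
    exact H.map_eq.1 h1.symm) with h | h
  · exact hu1 h
  · exact hut h

section comp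

variable [Finite X]

/-- **The image of a component of `C(u)`.** -/
theorem exists_comp (H : Data t σ) {u : X} (hu : u * t = t * u)
    {x : MulAut E} (hx : ∀ m : ↥X₀, x (σ m) = σ (cj H hu m)) {K : Subgroup X}
    (hK : IsComponentOf K (centralizer ({u} : Set X))) (hKt : K ≤ centralizer ({t} : Set X)) :
    ∃ (L : Subgroup ↥(fixedSubgroup x)) (f : ↥K →* ↥L), IsComponent L ∧ Function.Surjective f ∧
      ∀ k : ↥K, f k = 1 ↔ (k : X) = 1 ∨ (k : X) = t := by
  have hperf := isPerfect_of_comp hK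
  have hKX : K ≤ X₀ := H.perf K hKt hperf
  set D : Subgroup X := centralizer ({u} : Set X) ⊓ X₀ with hD
  have hKD : K ≤ D := le_inf hK.1 hKX
  have hK' := Abs.comp_mono hK hKD inf_le_left
  have hfix : ∀ d : ↥D, x (σ ⟨d, d.2.2⟩) = σ ⟨d, d.2.2⟩ := by
    intro d
    rw [hx]
    congr 1
    apply Subtype.ext
    rw [cj_coe]
    show u * (d : X) * u⁻¹ = d
    rw [← mem_centralizer_singleton_iff.1 d.2.1, mul_inv_cancel_right]
  let j : ↥D →* ↥(fixedSubgroup x) :=
    { toFun := fun d => ⟨σ ⟨d, d.2.2⟩, hfix d⟩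
      map_one' := Subtype.ext (map_one σ)
      map_mul' := fun a b => Subtype.ext (map_mul σ ⟨a, a.2.2⟩ ⟨b, b.2.2⟩) }
  have hj : ∀ d : ↥D, ((j d : ↥(fixedSubgroup x)) : E) = σ ⟨d, d.2.2⟩ := fun d => rfl
  have hN : j.range.Normal := by
    constructor
    rintro _ ⟨d, rfl⟩ ⟨e, he⟩
    obtain ⟨m, rfl⟩ := H.surj e
    have he' : x (σ m) = σ m := he
    rw [hx, H.map_eq, cj_coe] at he'
    have hmem : (m : X) * d * (m : X)⁻¹ ∈ D := by
      refine mem_inf.2 ⟨?_, X₀.mul_mem (X₀.mul_mem m.2 d.2.2) (X₀.inv_mem m.2)⟩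
      have hdu := mem_centralizer_singleton_iff.1 d.2.1
      rw [mem_centralizer_singleton_iff]
      -- `u (m d m⁻¹) u⁻¹ = m d m⁻¹`
      have h2 : u * ((m : X) * d * (m : X)⁻¹) * u⁻¹ = (m : X) * d * (m : X)⁻¹ := by
        have h3 : u * ((m : X) * d * (m : X)⁻¹) * u⁻¹ =
            (u * m * u⁻¹) * (u * d * u⁻¹) * (u * m * u⁻¹)⁻¹ := by group
        have h4 : u * (d : X) * u⁻¹ = d := by rw [← hdu, mul_inv_cancel_right]
        rw [h3, h4]
        rcases he' with h5 | h5
        · rw [h5]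
        · have hti : t⁻¹ = t := inv_eq_of_mul_eq_one_left H.t_sq
          rw [h5, mul_inv_rev, hti]
          calc (m : X) * t * d * (t * (m : X)⁻¹) = (m : X) * (t * d * t) * (m : X)⁻¹ := by group
            _ = (m : X) * (d * (t * t)) * (m : X)⁻¹ := by rw [← H.comm _ d.2.2]; group
            _ = _ := by rw [H.t_sq, mul_one]
      exact (mul_inv_eq_iff_eq_mul.1 h2).symm
    refine ⟨⟨_, hmem⟩, ?_⟩
    apply Subtype.ext
    rw [hj]
    show σ ⟨(m : X) * d * (m : X)⁻¹, _⟩ = σ m * σ ⟨d, d.2.2⟩ * (σ m)⁻¹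
    rw [← map_mul, ← map_inv, ← map_mul]
    rfl
  have hNs : j.range.IsSubnormal := Subgroup.Normal.isSubnormal hN
  let f : ↥K →* ↥((K.subgroupOf D).map j) :=
    { toFun := fun k => ⟨j ⟨k, hKD k.2⟩, ⟨⟨k, hKD k.2⟩, k.2, rfl⟩⟩
      map_one' := Subtype.ext (map_one j)
      map_mul' := fun a b => Subtype.ext (map_mul j ⟨a, hKD a.2⟩ ⟨b, hKD b.2⟩) }
  have hfk : ∀ k : ↥K, f k = 1 ↔ (k : X) = 1 ∨ (k : X) = t := by
    intro k
    rw [← H.ker ⟨k, hKX k.2⟩]
    constructor
    · intro h
      have h1 : j ⟨k, hKD k.2⟩ = 1 := congrArg Subtype.val h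
      exact congrArg Subtype.val h1
    · intro h
      exact Subtype.ext (Subtype.ext h)
  refine ⟨(K.subgroupOf D).map j, f, ?_, ?_, hfk⟩
  · have h1 : (K.subgroupOf D).map j = ((K.subgroupOf D).map j.rangeRestrict).map j.range.subtype := by
      rw [Subgroup.map_map]
      rfl
    rw [h1]
    refine Components.isComponent_map_subtype hNs ?_
    refine (ComponentImage.map_eq_bot_or_isComponent j.rangeRestrict_surjective hK'.2).resolve_left ?_
    intro hbot
    -- then `K ≤ {1, t}` is commutative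
    have h2 : ∀ k : ↥K, (k : X) = 1 ∨ (k : X) = t := by
      intro k
      rw [← hfk]
      have h3 : j.rangeRestrict ⟨k, hKD k.2⟩ ∈ (K.subgroupOf D).map j.rangeRestrict := ⟨_, k.2, rfl⟩
      rw [hbot, mem_bot] at h3
      have h4 : j ⟨k, hKD k.2⟩ = 1 := congrArg Subtype.val h3
      exact Subtype.ext h4
    have h5 := Abs.quasisimple_of_comp hK
    refine Components.quasisimple_not_isMulCommutative h5 ⟨⟨?_⟩⟩
    intro a b
    apply Subtype.ext
    show (a : X) * b = b * a
    rcases h2 a with ha | ha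
    · rw [ha, one_mul, mul_one]
    · rw [ha]
      exact (mem_centralizer_singleton_iff.1 (hKt b.2)).symm
  · rintro ⟨_, ⟨d, hd, rfl⟩⟩
    exact ⟨⟨d, hd⟩, rfl⟩

end comp

end Cfsg.Agent.BabyComp.Sec

end
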