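import Cfsg.Agent.TwoESix.GoodInst
import Cfsg.Agent.SporRec.Fi22Iso
import Cfsg.Agent.LThreeM.FiTwo
import Cfsg.Agent.Sigma.Tools

/-!
# `Fi₂₂ ≤ ²E₆(2)`, and every element of order three of `²E₆(2)` commutes with an involution (helper30)

`hom` : ten elements with the relations `Good` of `Y₃₃₃` give a homomorphism from the presented group `Fi₂₂`. The index of
its image in a group of the order of `²E₆(2)` is prime to three.
-/

set_option autoImplicit false

namespace Cfsg.Agent.BabyComp.ThreeE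

open Subgroup Cfsg Cfsg.Agent.TwoESix.Cox10 Cfsg.Agent.TwoESix.Lift

/-- the nodes -/
def nd : Spor.Fi22.Gen → Fin 10
  | .a => 0
  | .b => 1
  | .c => 2
  | .d => 3
  | .e => 4
  | .f => 5
  | .g => 6
  | .h => 7
  | .i => 8

theorem label_eq (x y : Spor.Fi22.Gen) : Spor.coxLabel Spor.Fi22.edges x y = lab (nd x) (nd y) := by
  cases x <;> cases y <;> decide

theorem chk1 : chk (rep 9 [0, 1, 2, 3, 4, 5, 7]) (rep 9 W321) = true := by decide +kernel

theorem chk2 : chk (rep 9 [1, 2, 3, 4, 5, 6, 7]) (rep 9 W231) = true := by decide +kernel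

section

variable {E : Type*} [Group E] {s : Fin 10 → E}

theorem rels (h : Good s) : ∀ r ∈ Spor.coxRelators Spor.Fi22.edges ∪ {r | r ∈ Spor.Fi22.extra},
    FreeGroup.lift (fun x => s (nd x)) r = 1 := by
  rintro r (⟨x, _, y, _, rfl⟩ | hr)
  · simp only [map_pow, map_mul, FreeGroup.lift_apply_of]
    rw [label_eq]
    exact h.lift _ _
  · have h1 := h.spider
    have h2 : ev s [0, 1, 2, 3, 4, 5, 7] ^ 9 = 1 := by rw [pow9_eq h.lift chk1, h.e321]
    have h3 : ev s [1, 2, 3, 4, 5, 6, 7] ^ 9 = 1 := by rw [pow9_eq h.lift chk2, h.e231]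
    simp only [ev, spider, List.map_cons, List.map_nil, List.prod_cons, List.prod_nil, mul_one] at h1 h2 h3
    simp only [Spor.Fi22.extra, Set.mem_setOf_eq, List.mem_cons, List.not_mem_nil, or_false] at hr
    rcases hr with rfl | rfl | rfl
    · simpa [nd, mul_assoc] using h1
    · simpa [nd, mul_assoc] using h2
    · simpa [nd, mul_assoc] using h3

/-- the homomorphism -/
noncomputable def hom (h : Good s) : Spor.Fi22 →* E := PresentedGroup.toGroup (f := fun x => s (nd x)) (rels h)

theorem hom_of (h : Good s) (x : Spor.Fi22.Gen) : hom h (PresentedGroup.of x) = s (nd x) :=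
  PresentedGroup.toGroup.of (rels h)

theorem hom_injective (h : Good s) (h0 : s 0 ≠ 1) : Function.Injective (hom h) := by
  have hs : IsSimpleGroup Spor.Fi22 := Cfsg.Agent.Fischer.Fi22Order.isSimple
  rw [← MonoidHom.ker_eq_bot_iff]
  rcases (inferInstance : (hom h).ker.Normal).eq_bot_or_eq_top with h1 | h1
  · exact h1
  · exfalso
    apply h0
    have h2 : (PresentedGroup.of Spor.Fi22.Gen.a : Spor.Fi22) ∈ (hom h).ker := by rw [h1]; trivial
    rw [MonoidHom.mem_ker, hom_of] at h2
    exact h2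

/-- An element of order three of `Fi₂₂` commutes with an involution. -/
theorem fi22_inv {y : Spor.Fi22} (hy : y ^ 3 = 1) : ∃ t : Spor.Fi22, t * t = 1 ∧ t ≠ 1 ∧ y * t = t * y := by
  obtain ⟨t, h1, h2, h3⟩ := Cfsg.Agent.LThreeM.FiTwo.exists_inv (g := Cfsg.Agent.SporRec.Fi22Iso.ψe y)
    (by rw [← map_pow, hy, map_one])
  refine ⟨Cfsg.Agent.SporRec.Fi22Iso.ψe.symm t, ?_, ?_, ?_⟩
  · rw [← map_mul, h1, map_one]
  · intro h4
    apply h2
    rw [← Cfsg.Agent.SporRec.Fi22Iso.ψe.apply_symm_apply t, h4, map_one]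
  · apply Cfsg.Agent.SporRec.Fi22Iso.ψe.injective
    rw [map_mul, map_mul, MulEquiv.apply_symm_apply]
    exact h3

/-- **Every element of order three of `²E₆(2)` commutes with an involution.** -/
theorem exists_inv [Finite E] (h : Good s) (h0 : s 0 ≠ 1) (hE : Nat.card E = 76532479683774853939200) {x : E}
    (hx : orderOf x = 3) : ∃ t : E, orderOf t = 2 ∧ t * x = x * t := by
  have : Fact (Nat.Prime 3) := ⟨Nat.prime_three⟩
  have hinj := hom_injective h h0
  have hH : Nat.card ↥(hom h).range = 64561751654400 := by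
    rw [← Nat.card_congr (MonoidHom.ofInjective hinj).toEquiv]
    exact Cfsg.Agent.Fischer.Fi22Order.card_fi22
  have hidx : ¬ 3 ∣ (hom h).range.index := by
    have h1 := (hom h).range.card_mul_index
    rw [hH, hE] at h1
    have h2 : (hom h).range.index = 1185415168 := by
      have h3 : 64561751654400 * 1185415168 = 76532479683774853939200 := by norm_num
      rw [← h3] at h1
      exact Nat.eq_of_mul_eq_mul_left (by norm_num) h1
    rw [h2]
    norm_num
  obtain ⟨S, hS⟩ := Cfsg.Agent.Sigma.Tools.exists_sylow_le (p := 3) hidx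
  have hxp : IsPGroup 3 ↥(zpowers x) := by
    refine IsPGroup.of_card (n := 1) ?_
    rw [Nat.card_zpowers, hx, pow_one]
  obtain ⟨P, hP⟩ := hxp.exists_le_sylow
  obtain ⟨g, hg⟩ := MulAction.exists_smul_eq E P S
  have hgx : g * x * g⁻¹ ∈ (hom h).range := by
    apply hS
    rw [← hg]
    exact ⟨x, hP (mem_zpowers x), rfl⟩
  obtain ⟨y, hy⟩ := hgx
  have hy3 : y ^ 3 = 1 := by
    apply hinj
    rw [map_pow, hy, map_one, conj_pow, ← hx, pow_orderOf_eq_one, mul_one, mul_inv_cancel]
  obtain ⟨t, h1, h2, h3⟩ := fi22_inv hy3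
  have h4 := congrArg (hom h) h3
  rw [map_mul, map_mul, hy] at h4
  refine ⟨g⁻¹ * hom h t * g, ?_, ?_⟩
  · refine orderOf_eq_prime ?_ ?_
    · rw [pow_two]
      calc g⁻¹ * hom h t * g * (g⁻¹ * hom h t * g) = g⁻¹ * (hom h t * hom h t) * g := by group
        _ = 1 := by rw [← map_mul, h1, map_one]; group
    · intro h5
      apply h2
      apply hinj
      rw [map_one]
      calc hom h t = g * (g⁻¹ * hom h t * g) * g⁻¹ := by group
        _ = 1 := by rw [h5]; group
  · calc g⁻¹ * hom h t * g * x = g⁻¹ * (hom h t * (g * x * g⁻¹)) * g := by group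
      _ = g⁻¹ * (g * x * g⁻¹ * hom h t) * g := by rw [h4]
      _ = x * (g⁻¹ * hom h t * g) := by group

end

end Cfsg.Agent.BabyComp.ThreeE
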